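import Cfsg.Agent.Lib.H25.SuzM2.Tabs

set_option Elab.async false
set_option autoImplicit false
set_option maxRecDepth 1000000

/-! # S2048, piece M2: kernel computations on the monomial model of `2.Suz`, part 0 (helper25, generated) -/

namespace Cfsg.Agent.Lib.H25.SuzM2

open Cfsg.Agent.Lib.H25.PPT

theorem cw0_6 : checkWordF [lkS tA, lkS tB, lkS tA, lkS tB, lkS tA, lkS tB, lkS tA, lkS tB, lkS tA, lkS tB] (6 * 8190) 8190 = true := by
  decide +kernel

theorem cw10_2 : checkWordF [lkS tB, lkS tG, lkS tB, lkS tG, lkS tB, lkS tG] (2 * 8190) 8190 = true := by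
  decide +kernel

theorem cw11_0 : checkWordF [lkS tC, lkS tD, lkS tC, lkS tD, lkS tC, lkS tD, lkS tC, lkS tD, lkS tC, lkS tD, lkS tC, lkS tD, lkS tC, lkS tD, lkS tC, lkS tD] (0 * 8190) 8190 = true := by
  decide +kernel

theorem cw11_3 : checkWordF [lkS tC, lkS tD, lkS tC, lkS tD, lkS tC, lkS tD, lkS tC, lkS tD, lkS tC, lkS tD, lkS tC, lkS tD, lkS tC, lkS tD, lkS tC, lkS tD] (3 * 8190) 8190 = true := by
  decide +kernel

theorem cw12_2 : checkWordF [lkS tC, lkS tE, lkS tC, lkS tE, lkS tD, lkS tD] (2 * 8190) 8190 = true := by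
  decide +kernel

theorem cw13_1 : checkWordF [lkS tC, lkS tF, lkS tC, lkS tF] (1 * 8190) 8190 = true := by
  decide +kernel

theorem cw14_1 : checkWordF [lkS tC, lkS tG, lkS tC, lkS tG] (1 * 8190) 8190 = true := by
  decide +kernel

theorem cw15_1 : checkWordF [lkS tD, lkS tE, lkS tD, lkS tE, lkS tD, lkS tE, lkS tD, lkS tD] (1 * 8190) 8190 = true := by
  decide +kernel

theorem cw15_7 : checkWordF [lkS tD, lkS tE, lkS tD, lkS tE, lkS tD, lkS tE, lkS tD, lkS tD] (7 * 8190) 8190 = true := by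
  decide +kernel

theorem cw16_2 : checkWordF [lkS tD, lkS tF, lkS tD, lkS tF, lkS tD, lkS tD] (2 * 8190) 8190 = true := by
  decide +kernel

theorem cw17_2 : checkWordF [lkS tD, lkS tG, lkS tD, lkS tG, lkS tD, lkS tD] (2 * 8190) 8190 = true := by
  decide +kernel

theorem cw18_2 : checkWordF [lkS tE, lkS tF, lkS tE, lkS tF, lkS tD, lkS tD] (2 * 8190) 8190 = true := by
  decide +kernel

theorem cw19_2 : checkWordF [lkS tE, lkS tG, lkS tE, lkS tG, lkS tD, lkS tD] (2 * 8190) 8190 = true := by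
  decide +kernel

theorem cw1_2 : checkWordF [lkS tA, lkS tC, lkS tA, lkS tC] (2 * 8190) 8190 = true := by
  decide +kernel

theorem cw20_7 : checkWordF [lkS tF, lkS tG, lkS tF, lkS tG, lkS tF, lkS tG, lkS tF, lkS tG] (7 * 8190) 8190 = true := by
  decide +kernel

theorem cw22_2 : checkWordF [lkS tA, lkS tG, lkS tF, lkS tG, lkS tF] (2 * 8190) 8190 = true := by
  decide +kernel

theorem cw24_3 : checkWordF [lkS tB, lkS tF, lkS tG, lkS tB, lkS tF, lkS tG, lkS tB, lkS tF, lkS tG, lkS tB, lkS tF, lkS tG, lkS tB, lkS tF, lkS tG] (3 * 8190) 8190 = true := by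
  decide +kernel

theorem cw25_0 : checkWordF [lkS tB, lkS tC, lkS tD, lkS tC, lkS tD, lkS tB, lkS tC, lkS tD, lkS tC, lkS tD, lkS tB, lkS tC, lkS tD, lkS tC, lkS tD, lkS tB, lkS tC, lkS tD, lkS tC, lkS tD, lkS tB, lkS tC, lkS tD, lkS tC, lkS tD, lkS tE, lkS tB, lkS tC, lkS tD, lkS tC, lkS tD, lkS tB, lkS tC, lkS tD, lkS tC, lkS tD, lkS tB, lkS tC, lkS tD, lkS tC, lkS tD, lkS tB, lkS tC, lkS tD, lkS tC, lkS tD, lkS tB, lkS tC, lkS tD, lkS tC, lkS tD, lkS tE, lkS tB, lkS tC, lkS tD, lkS tC, lkS tD, lkS tB, lkS tC, lkS tD, lkS tC, lkS tD, lkS tB, lkS tC, lkS tD, lkS tC, lkS tD, lkS tB, lkS tC, lkS tD, lkS tC, lkS tD, lkS tB, lkS tC, lkS tD, lkS tC, lkS tD, lkS tE] (0 * 1872) 1872 = true := by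
  decide +kernel

theorem cw25_16 : checkWordF [lkS tB, lkS tC, lkS tD, lkS tC, lkS tD, lkS tB, lkS tC, lkS tD, lkS tC, lkS tD, lkS tB, lkS tC, lkS tD, lkS tC, lkS tD, lkS tB, lkS tC, lkS tD, lkS tC, lkS tD, lkS tB, lkS tC, lkS tD, lkS tC, lkS tD, lkS tE, lkS tB, lkS tC, lkS tD, lkS tC, lkS tD, lkS tB, lkS tC, lkS tD, lkS tC, lkS tD, lkS tB, lkS tC, lkS tD, lkS tC, lkS tD, lkS tB, lkS tC, lkS tD, lkS tC, lkS tD, lkS tB, lkS tC, lkS tD, lkS tC, lkS tD, lkS tE, lkS tB, lkS tC, lkS tD, lkS tC, lkS tD, lkS tB, lkS tC, lkS tD, lkS tC, lkS tD, lkS tB, lkS tC, lkS tD, lkS tC, lkS tD, lkS tB, lkS tC, lkS tD, lkS tC, lkS tD, lkS tB, lkS tC, lkS tD, lkS tC, lkS tD, lkS tE] (16 * 1872) 1872 = true := by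
  decide +kernel

theorem cw25_24 : checkWordF [lkS tB, lkS tC, lkS tD, lkS tC, lkS tD, lkS tB, lkS tC, lkS tD, lkS tC, lkS tD, lkS tB, lkS tC, lkS tD, lkS tC, lkS tD, lkS tB, lkS tC, lkS tD, lkS tC, lkS tD, lkS tB, lkS tC, lkS tD, lkS tC, lkS tD, lkS tE, lkS tB, lkS tC, lkS tD, lkS tC, lkS tD, lkS tB, lkS tC, lkS tD, lkS tC, lkS tD, lkS tB, lkS tC, lkS tD, lkS tC, lkS tD, lkS tB, lkS tC, lkS tD, lkS tC, lkS tD, lkS tB, lkS tC, lkS tD, lkS tC, lkS tD, lkS tE, lkS tB, lkS tC, lkS tD, lkS tC, lkS tD, lkS tB, lkS tC, lkS tD, lkS tC, lkS tD, lkS tB, lkS tC, lkS tD, lkS tC, lkS tD, lkS tB, lkS tC, lkS tD, lkS tC, lkS tD, lkS tB, lkS tC, lkS tD, lkS tC, lkS tD, lkS tE] (24 * 1872) 1872 = true := by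
  decide +kernel

theorem cw25_32 : checkWordF [lkS tB, lkS tC, lkS tD, lkS tC, lkS tD, lkS tB, lkS tC, lkS tD, lkS tC, lkS tD, lkS tB, lkS tC, lkS tD, lkS tC, lkS tD, lkS tB, lkS tC, lkS tD, lkS tC, lkS tD, lkS tB, lkS tC, lkS tD, lkS tC, lkS tD, lkS tE, lkS tB, lkS tC, lkS tD, lkS tC, lkS tD, lkS tB, lkS tC, lkS tD, lkS tC, lkS tD, lkS tB, lkS tC, lkS tD, lkS tC, lkS tD, lkS tB, lkS tC, lkS tD, lkS tC, lkS tD, lkS tB, lkS tC, lkS tD, lkS tC, lkS tD, lkS tE, lkS tB, lkS tC, lkS tD, lkS tC, lkS tD, lkS tB, lkS tC, lkS tD, lkS tC, lkS tD, lkS tB, lkS tC, lkS tD, lkS tC, lkS tD, lkS tB, lkS tC, lkS tD, lkS tC, lkS tD, lkS tB, lkS tC, lkS tD, lkS tC, lkS tD, lkS tE] (32 * 1872) 1872 = true := by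
  decide +kernel

theorem cw25_8 : checkWordF [lkS tB, lkS tC, lkS tD, lkS tC, lkS tD, lkS tB, lkS tC, lkS tD, lkS tC, lkS tD, lkS tB, lkS tC, lkS tD, lkS tC, lkS tD, lkS tB, lkS tC, lkS tD, lkS tC, lkS tD, lkS tB, lkS tC, lkS tD, lkS tC, lkS tD, lkS tE, lkS tB, lkS tC, lkS tD, lkS tC, lkS tD, lkS tB, lkS tC, lkS tD, lkS tC, lkS tD, lkS tB, lkS tC, lkS tD, lkS tC, lkS tD, lkS tB, lkS tC, lkS tD, lkS tC, lkS tD, lkS tB, lkS tC, lkS tD, lkS tC, lkS tD, lkS tE, lkS tB, lkS tC, lkS tD, lkS tC, lkS tD, lkS tB, lkS tC, lkS tD, lkS tC, lkS tD, lkS tB, lkS tC, lkS tD, lkS tC, lkS tD, lkS tB, lkS tC, lkS tD, lkS tC, lkS tD, lkS tB, lkS tC, lkS tD, lkS tC, lkS tD, lkS tE] (8 * 1872) 1872 = true := by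
  decide +kernel

theorem cw26_4 : checkWordF [lkS tA, lkS tA] (4 * 8190) 8190 = true := by
  decide +kernel

theorem cw27_4 : checkWordF [lkS tB, lkS tB] (4 * 8190) 8190 = true := by
  decide +kernel

theorem cw28_4 : checkWordF [lkS tC, lkS tC] (4 * 8190) 8190 = true := by
  decide +kernel

theorem cw29_1 : checkWordF [lkS tD, lkS tD, lkS tD, lkS tD] (1 * 8190) 8190 = true := by
  decide +kernel

theorem cw30_1 : checkWordF [lkS tE, lkS tE, lkS tD, lkS tD] (1 * 8190) 8190 = true := by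
  decide +kernel

theorem cw31_4 : checkWordF [lkS tF, lkS tF] (4 * 8190) 8190 = true := by
  decide +kernel

theorem cw32_4 : checkWordF [lkS tG, lkS tG] (4 * 8190) 8190 = true := by
  decide +kernel

theorem cw34_2 : checkWordF [lkS tD, lkS tD, lkS tA, lkS tD, lkS tD, lkS tA] (2 * 8190) 8190 = true := by
  decide +kernel

theorem cw35_2 : checkWordF [lkS tD, lkS tD, lkS tB, lkS tD, lkS tD, lkS tB] (2 * 8190) 8190 = true := by
  decide +kernel

theorem cw36_2 : checkWordF [lkS tD, lkS tD, lkS tC, lkS tD, lkS tD, lkS tC] (2 * 8190) 8190 = true := by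
  decide +kernel

theorem cw37_2 : checkWordF [lkS tD, lkS tD, lkS tF, lkS tD, lkS tD, lkS tF] (2 * 8190) 8190 = true := by
  decide +kernel

theorem cw38_2 : checkWordF [lkS tD, lkS tD, lkS tG, lkS tD, lkS tD, lkS tG] (2 * 8190) 8190 = true := by
  decide +kernel

theorem cw39_7 : checkWordF [lkS tD, lkS tD, lkS tE, lkS tD, lkS tD, lkS tE, lkS tE, lkS tE] (7 * 8190) 8190 = true := by
  decide +kernel

theorem cw3_2 : checkWordF [lkS tA, lkS tE, lkS tA, lkS tE, lkS tD, lkS tD] (2 * 8190) 8190 = true := by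
  decide +kernel

theorem cw4_1 : checkWordF [lkS tA, lkS tF, lkS tA, lkS tF] (1 * 8190) 8190 = true := by
  decide +kernel

theorem cw5_1 : checkWordF [lkS tA, lkS tG, lkS tA, lkS tG] (1 * 8190) 8190 = true := by
  decide +kernel

theorem cw6_2 : checkWordF [lkS tB, lkS tC, lkS tB, lkS tC, lkS tB, lkS tC] (2 * 8190) 8190 = true := by
  decide +kernel

theorem cw7_2 : checkWordF [lkS tB, lkS tD, lkS tB, lkS tD, lkS tD, lkS tD] (2 * 8190) 8190 = true := by
  decide +kernel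

theorem cw8_2 : checkWordF [lkS tB, lkS tE, lkS tB, lkS tE, lkS tD, lkS tD] (2 * 8190) 8190 = true := by
  decide +kernel

theorem cw9_2 : checkWordF [lkS tB, lkS tF, lkS tB, lkS tF, lkS tB, lkS tF] (2 * 8190) 8190 = true := by
  decide +kernel

theorem pr0_1 : checkWordF [lkS tA, lkS tA] (1 * 8190) 8190 = true := by
  decide +kernel

theorem pr0_4 : checkWordF [lkS tA, lkS tA] (4 * 8190) 8190 = true := by
  decide +kernel

theorem pr1_4 : checkWordF [lkS tB, lkS tB] (4 * 8190) 8190 = true := by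
  decide +kernel

theorem pr2_4 : checkWordF [lkS tC, lkS tC] (4 * 8190) 8190 = true := by
  decide +kernel

theorem pr3_4 : checkWordF [lkS tD, lkS tDi] (4 * 8190) 8190 = true := by
  decide +kernel

theorem pr4_4 : checkWordF [lkS tE, lkS tEi] (4 * 8190) 8190 = true := by
  decide +kernel

theorem pr5_4 : checkWordF [lkS tF, lkS tF] (4 * 8190) 8190 = true := by
  decide +kernel

theorem pr6_4 : checkWordF [lkS tG, lkS tG] (4 * 8190) 8190 = true := by
  decide +kernel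

theorem pri3_4 : checkWordF [lkS tDi, lkS tD] (4 * 8190) 8190 = true := by
  decide +kernel

theorem pri4_4 : checkWordF [lkS tEi, lkS tE] (4 * 8190) 8190 = true := by
  decide +kernel

theorem rg0_4 : checkRangeF (lkS tA) 65520 (4 * 8190) 8190 = true := by
  decide +kernel

theorem rg1_3 : checkRangeF (lkS tB) 65520 (3 * 8190) 8190 = true := by
  decide +kernel

theorem rg2_3 : checkRangeF (lkS tC) 65520 (3 * 8190) 8190 = true := by
  decide +kernel

theorem rg3_3 : checkRangeF (lkS tD) 65520 (3 * 8190) 8190 = true := by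
  decide +kernel

theorem rg4_3 : checkRangeF (lkS tE) 65520 (3 * 8190) 8190 = true := by
  decide +kernel

theorem rg5_3 : checkRangeF (lkS tF) 65520 (3 * 8190) 8190 = true := by
  decide +kernel

theorem rg6_3 : checkRangeF (lkS tG) 65520 (3 * 8190) 8190 = true := by
  decide +kernel

theorem rgi3_3 : checkRangeF (lkS tDi) 65520 (3 * 8190) 8190 = true := by
  decide +kernel

theorem rgi4_3 : checkRangeF (lkS tEi) 65520 (3 * 8190) 8190 = true := by
  decide +kernel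

end Cfsg.Agent.Lib.H25.SuzM2
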