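import Cfsg.Agent.Lib.H25.SuzM2.Tabs

set_option Elab.async false
set_option autoImplicit false
set_option maxRecDepth 1000000

/-! # S2048, piece M2: kernel computations on the monomial model of `2.Suz`, part 1 (helper25, generated) -/

namespace Cfsg.Agent.Lib.H25.SuzM2

open Cfsg.Agent.Lib.H25.PPT

theorem cw0_7 : checkWordF [lkS tA, lkS tB, lkS tA, lkS tB, lkS tA, lkS tB, lkS tA, lkS tB, lkS tA, lkS tB] (7 * 8190) 8190 = true := by
  decide +kernel

theorem cw10_6 : checkWordF [lkS tB, lkS tG, lkS tB, lkS tG, lkS tB, lkS tG] (6 * 8190) 8190 = true := by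
  decide +kernel

theorem cw11_1 : checkWordF [lkS tC, lkS tD, lkS tC, lkS tD, lkS tC, lkS tD, lkS tC, lkS tD, lkS tC, lkS tD, lkS tC, lkS tD, lkS tC, lkS tD, lkS tC, lkS tD] (1 * 8190) 8190 = true := by
  decide +kernel

theorem cw11_4 : checkWordF [lkS tC, lkS tD, lkS tC, lkS tD, lkS tC, lkS tD, lkS tC, lkS tD, lkS tC, lkS tD, lkS tC, lkS tD, lkS tC, lkS tD, lkS tC, lkS tD] (4 * 8190) 8190 = true := by
  decide +kernel

theorem cw12_6 : checkWordF [lkS tC, lkS tE, lkS tC, lkS tE, lkS tD, lkS tD] (6 * 8190) 8190 = true := by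
  decide +kernel

theorem cw13_2 : checkWordF [lkS tC, lkS tF, lkS tC, lkS tF] (2 * 8190) 8190 = true := by
  decide +kernel

theorem cw14_2 : checkWordF [lkS tC, lkS tG, lkS tC, lkS tG] (2 * 8190) 8190 = true := by
  decide +kernel

theorem cw15_2 : checkWordF [lkS tD, lkS tE, lkS tD, lkS tE, lkS tD, lkS tE, lkS tD, lkS tD] (2 * 8190) 8190 = true := by
  decide +kernel

theorem cw16_6 : checkWordF [lkS tD, lkS tF, lkS tD, lkS tF, lkS tD, lkS tD] (6 * 8190) 8190 = true := by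
  decide +kernel

theorem cw17_6 : checkWordF [lkS tD, lkS tG, lkS tD, lkS tG, lkS tD, lkS tD] (6 * 8190) 8190 = true := by
  decide +kernel

theorem cw18_6 : checkWordF [lkS tE, lkS tF, lkS tE, lkS tF, lkS tD, lkS tD] (6 * 8190) 8190 = true := by
  decide +kernel

theorem cw19_6 : checkWordF [lkS tE, lkS tG, lkS tE, lkS tG, lkS tD, lkS tD] (6 * 8190) 8190 = true := by
  decide +kernel

theorem cw20_0 : checkWordF [lkS tF, lkS tG, lkS tF, lkS tG, lkS tF, lkS tG, lkS tF, lkS tG] (0 * 8190) 8190 = true := by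
  decide +kernel

theorem cw22_7 : checkWordF [lkS tA, lkS tG, lkS tF, lkS tG, lkS tF] (7 * 8190) 8190 = true := by
  decide +kernel

theorem cw24_4 : checkWordF [lkS tB, lkS tF, lkS tG, lkS tB, lkS tF, lkS tG, lkS tB, lkS tF, lkS tG, lkS tB, lkS tF, lkS tG, lkS tB, lkS tF, lkS tG] (4 * 8190) 8190 = true := by
  decide +kernel

theorem cw25_1 : checkWordF [lkS tB, lkS tC, lkS tD, lkS tC, lkS tD, lkS tB, lkS tC, lkS tD, lkS tC, lkS tD, lkS tB, lkS tC, lkS tD, lkS tC, lkS tD, lkS tB, lkS tC, lkS tD, lkS tC, lkS tD, lkS tB, lkS tC, lkS tD, lkS tC, lkS tD, lkS tE, lkS tB, lkS tC, lkS tD, lkS tC, lkS tD, lkS tB, lkS tC, lkS tD, lkS tC, lkS tD, lkS tB, lkS tC, lkS tD, lkS tC, lkS tD, lkS tB, lkS tC, lkS tD, lkS tC, lkS tD, lkS tB, lkS tC, lkS tD, lkS tC, lkS tD, lkS tE, lkS tB, lkS tC, lkS tD, lkS tC, lkS tD, lkS tB, lkS tC, lkS tD, lkS tC, lkS tD, lkS tB, lkS tC, lkS tD, lkS tC, lkS tD, lkS tB, lkS tC, lkS tD, lkS tC,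 lkS tD, lkS tB, lkS tC, lkS tD, lkS tC, lkS tD, lkS tE] (1 * 1872) 1872 = true := by
  decide +kernel

theorem cw25_17 : checkWordF [lkS tB, lkS tC, lkS tD, lkS tC, lkS tD, lkS tB, lkS tC, lkS tD, lkS tC, lkS tD, lkS tB, lkS tC, lkS tD, lkS tC, lkS tD, lkS tB, lkS tC, lkS tD, lkS tC, lkS tD, lkS tB, lkS tC, lkS tD, lkS tC, lkS tD, lkS tE, lkS tB, lkS tC, lkS tD, lkS tC, lkS tD, lkS tB, lkS tC, lkS tD, lkS tC, lkS tD, lkS tB, lkS tC, lkS tD, lkS tC, lkS tD, lkS tB, lkS tC, lkS tD, lkS tC, lkS tD, lkS tB, lkS tC, lkS tD, lkS tC, lkS tD, lkS tE, lkS tB, lkS tC, lkS tD, lkS tC, lkS tD, lkS tB, lkS tC, lkS tD, lkS tC, lkS tD, lkS tB, lkS tC, lkS tD, lkS tC, lkS tD, lkS tB, lkS tC, lkS tD, lkS tC, lkS tD, lkS tB, lkS tC, lkS tD, lkS tC, lkS tD, lkS tE] (17 * 1872) 1872 = true := by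
  decide +kernel

theorem cw25_25 : checkWordF [lkS tB, lkS tC, lkS tD, lkS tC, lkS tD, lkS tB, lkS tC, lkS tD, lkS tC, lkS tD, lkS tB, lkS tC, lkS tD, lkS tC, lkS tD, lkS tB, lkS tC, lkS tD, lkS tC, lkS tD, lkS tB, lkS tC, lkS tD, lkS tC, lkS tD, lkS tE, lkS tB, lkS tC, lkS tD, lkS tC, lkS tD, lkS tB, lkS tC, lkS tD, lkS tC, lkS tD, lkS tB, lkS tC, lkS tD, lkS tC, lkS tD, lkS tB, lkS tC, lkS tD, lkS tC, lkS tD, lkS tB, lkS tC, lkS tD, lkS tC, lkS tD, lkS tE, lkS tB, lkS tC, lkS tD, lkS tC, lkS tD, lkS tB, lkS tC, lkS tD, lkS tC, lkS tD, lkS tB, lkS tC, lkS tD, lkS tC, lkS tD, lkS tB, lkS tC, lkS tD, lkS tC, lkS tD, lkS tB, lkS tC, lkS tD, lkS tC, lkS tD, lkS tE] (25 * 1872) 1872 = true := by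
  decide +kernel

theorem cw25_33 : checkWordF [lkS tB, lkS tC, lkS tD, lkS tC, lkS tD, lkS tB, lkS tC, lkS tD, lkS tC, lkS tD, lkS tB, lkS tC, lkS tD, lkS tC, lkS tD, lkS tB, lkS tC, lkS tD, lkS tC, lkS tD, lkS tB, lkS tC, lkS tD, lkS tC, lkS tD, lkS tE, lkS tB, lkS tC, lkS tD, lkS tC, lkS tD, lkS tB, lkS tC, lkS tD, lkS tC, lkS tD, lkS tB, lkS tC, lkS tD, lkS tC, lkS tD, lkS tB, lkS tC, lkS tD, lkS tC, lkS tD, lkS tB, lkS tC, lkS tD, lkS tC, lkS tD, lkS tE, lkS tB, lkS tC, lkS tD, lkS tC, lkS tD, lkS tB, lkS tC, lkS tD, lkS tC, lkS tD, lkS tB, lkS tC, lkS tD, lkS tC, lkS tD, lkS tB, lkS tC, lkS tD, lkS tC, lkS tD, lkS tB, lkS tC, lkS tD, lkS tC, lkS tD, lkS tE] (33 * 1872) 1872 = true := by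
  decide +kernel

theorem cw25_9 : checkWordF [lkS tB, lkS tC, lkS tD, lkS tC, lkS tD, lkS tB, lkS tC, lkS tD, lkS tC, lkS tD, lkS tB, lkS tC, lkS tD, lkS tC, lkS tD, lkS tB, lkS tC, lkS tD, lkS tC, lkS tD, lkS tB, lkS tC, lkS tD, lkS tC, lkS tD, lkS tE, lkS tB, lkS tC, lkS tD, lkS tC, lkS tD, lkS tB, lkS tC, lkS tD, lkS tC, lkS tD, lkS tB, lkS tC, lkS tD, lkS tC, lkS tD, lkS tB, lkS tC, lkS tD, lkS tC, lkS tD, lkS tB, lkS tC, lkS tD, lkS tC, lkS tD, lkS tE, lkS tB, lkS tC, lkS tD, lkS tC, lkS tD, lkS tB, lkS tC, lkS tD, lkS tC, lkS tD, lkS tB, lkS tC, lkS tD, lkS tC, lkS tD, lkS tB, lkS tC, lkS tD, lkS tC, lkS tD, lkS tB, lkS tC, lkS tD, lkS tC, lkS tD, lkS tE] (9 * 1872) 1872 = true := by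
  decide +kernel

theorem cw26_5 : checkWordF [lkS tA, lkS tA] (5 * 8190) 8190 = true := by
  decide +kernel

theorem cw27_5 : checkWordF [lkS tB, lkS tB] (5 * 8190) 8190 = true := by
  decide +kernel

theorem cw28_5 : checkWordF [lkS tC, lkS tC] (5 * 8190) 8190 = true := by
  decide +kernel

theorem cw29_2 : checkWordF [lkS tD, lkS tD, lkS tD, lkS tD] (2 * 8190) 8190 = true := by
  decide +kernel

theorem cw2_0 : checkWordF [lkS tA, lkS tD, lkS tA, lkS tD, lkS tD, lkS tD] (0 * 8190) 8190 = true := by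
  decide +kernel

theorem cw2_6 : checkWordF [lkS tA, lkS tD, lkS tA, lkS tD, lkS tD, lkS tD] (6 * 8190) 8190 = true := by
  decide +kernel

theorem cw30_2 : checkWordF [lkS tE, lkS tE, lkS tD, lkS tD] (2 * 8190) 8190 = true := by
  decide +kernel

theorem cw31_5 : checkWordF [lkS tF, lkS tF] (5 * 8190) 8190 = true := by
  decide +kernel

theorem cw32_5 : checkWordF [lkS tG, lkS tG] (5 * 8190) 8190 = true := by
  decide +kernel

theorem cw34_6 : checkWordF [lkS tD, lkS tD, lkS tA, lkS tD, lkS tD, lkS tA] (6 * 8190) 8190 = true := by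
  decide +kernel

theorem cw35_6 : checkWordF [lkS tD, lkS tD, lkS tB, lkS tD, lkS tD, lkS tB] (6 * 8190) 8190 = true := by
  decide +kernel

theorem cw36_6 : checkWordF [lkS tD, lkS tD, lkS tC, lkS tD, lkS tD, lkS tC] (6 * 8190) 8190 = true := by
  decide +kernel

theorem cw37_6 : checkWordF [lkS tD, lkS tD, lkS tF, lkS tD, lkS tD, lkS tF] (6 * 8190) 8190 = true := by
  decide +kernel

theorem cw38_6 : checkWordF [lkS tD, lkS tD, lkS tG, lkS tD, lkS tD, lkS tG] (6 * 8190) 8190 = true := by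
  decide +kernel

theorem cw39_0 : checkWordF [lkS tD, lkS tD, lkS tE, lkS tD, lkS tD, lkS tE, lkS tE, lkS tE] (0 * 8190) 8190 = true := by
  decide +kernel

theorem cw3_6 : checkWordF [lkS tA, lkS tE, lkS tA, lkS tE, lkS tD, lkS tD] (6 * 8190) 8190 = true := by
  decide +kernel

theorem cw4_2 : checkWordF [lkS tA, lkS tF, lkS tA, lkS tF] (2 * 8190) 8190 = true := by
  decide +kernel

theorem cw5_2 : checkWordF [lkS tA, lkS tG, lkS tA, lkS tG] (2 * 8190) 8190 = true := by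
  decide +kernel

theorem cw6_6 : checkWordF [lkS tB, lkS tC, lkS tB, lkS tC, lkS tB, lkS tC] (6 * 8190) 8190 = true := by
  decide +kernel

theorem cw7_6 : checkWordF [lkS tB, lkS tD, lkS tB, lkS tD, lkS tD, lkS tD] (6 * 8190) 8190 = true := by
  decide +kernel

theorem cw8_6 : checkWordF [lkS tB, lkS tE, lkS tB, lkS tE, lkS tD, lkS tD] (6 * 8190) 8190 = true := by
  decide +kernel

theorem cw9_6 : checkWordF [lkS tB, lkS tF, lkS tB, lkS tF, lkS tB, lkS tF] (6 * 8190) 8190 = true := by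
  decide +kernel

theorem pr0_2 : checkWordF [lkS tA, lkS tA] (2 * 8190) 8190 = true := by
  decide +kernel

theorem pr0_5 : checkWordF [lkS tA, lkS tA] (5 * 8190) 8190 = true := by
  decide +kernel

theorem pr1_5 : checkWordF [lkS tB, lkS tB] (5 * 8190) 8190 = true := by
  decide +kernel

theorem pr2_5 : checkWordF [lkS tC, lkS tC] (5 * 8190) 8190 = true := by
  decide +kernel

theorem pr3_5 : checkWordF [lkS tD, lkS tDi] (5 * 8190) 8190 = true := by
  decide +kernel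

theorem pr4_5 : checkWordF [lkS tE, lkS tEi] (5 * 8190) 8190 = true := by
  decide +kernel

theorem pr5_5 : checkWordF [lkS tF, lkS tF] (5 * 8190) 8190 = true := by
  decide +kernel

theorem pr6_5 : checkWordF [lkS tG, lkS tG] (5 * 8190) 8190 = true := by
  decide +kernel

theorem pri3_5 : checkWordF [lkS tDi, lkS tD] (5 * 8190) 8190 = true := by
  decide +kernel

theorem pri4_5 : checkWordF [lkS tEi, lkS tE] (5 * 8190) 8190 = true := by
  decide +kernel

theorem rg0_5 : checkRangeF (lkS tA) 65520 (5 * 8190) 8190 = true := by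
  decide +kernel

theorem rg1_4 : checkRangeF (lkS tB) 65520 (4 * 8190) 8190 = true := by
  decide +kernel

theorem rg2_4 : checkRangeF (lkS tC) 65520 (4 * 8190) 8190 = true := by
  decide +kernel

theorem rg3_4 : checkRangeF (lkS tD) 65520 (4 * 8190) 8190 = true := by
  decide +kernel

theorem rg4_4 : checkRangeF (lkS tE) 65520 (4 * 8190) 8190 = true := by
  decide +kernel

theorem rg5_4 : checkRangeF (lkS tF) 65520 (4 * 8190) 8190 = true := by
  decide +kernel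

theorem rg6_4 : checkRangeF (lkS tG) 65520 (4 * 8190) 8190 = true := by
  decide +kernel

theorem rgi3_4 : checkRangeF (lkS tDi) 65520 (4 * 8190) 8190 = true := by
  decide +kernel

theorem rgi4_4 : checkRangeF (lkS tEi) 65520 (4 * 8190) 8190 = true := by
  decide +kernel

end Cfsg.Agent.Lib.H25.SuzM2
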