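import Cfsg.Agent.Lib.H25.SuzM2.Tabs

set_option Elab.async false
set_option autoImplicit false
set_option maxRecDepth 1000000

/-! # S2048, piece M2: kernel computations on the monomial model of `2.Suz`, part 2 (helper25, generated) -/

namespace Cfsg.Agent.Lib.H25.SuzM2

open Cfsg.Agent.Lib.H25.PPT

theorem cw10_7 : checkWordF [lkS tB, lkS tG, lkS tB, lkS tG, lkS tB, lkS tG] (7 * 8190) 8190 = true := by
  decide +kernel

theorem cw11_2 : checkWordF [lkS tC, lkS tD, lkS tC, lkS tD, lkS tC, lkS tD, lkS tC, lkS tD, lkS tC, lkS tD, lkS tC, lkS tD, lkS tC, lkS tD, lkS tC, lkS tD] (2 * 8190) 8190 = true := by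
  decide +kernel

theorem cw11_5 : checkWordF [lkS tC, lkS tD, lkS tC, lkS tD, lkS tC, lkS tD, lkS tC, lkS tD, lkS tC, lkS tD, lkS tC, lkS tD, lkS tC, lkS tD, lkS tC, lkS tD] (5 * 8190) 8190 = true := by
  decide +kernel

theorem cw12_7 : checkWordF [lkS tC, lkS tE, lkS tC, lkS tE, lkS tD, lkS tD] (7 * 8190) 8190 = true := by
  decide +kernel

theorem cw13_4 : checkWordF [lkS tC, lkS tF, lkS tC, lkS tF] (4 * 8190) 8190 = true := by
  decide +kernel

theorem cw14_4 : checkWordF [lkS tC, lkS tG, lkS tC, lkS tG] (4 * 8190) 8190 = true := by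
  decide +kernel

theorem cw16_7 : checkWordF [lkS tD, lkS tF, lkS tD, lkS tF, lkS tD, lkS tD] (7 * 8190) 8190 = true := by
  decide +kernel

theorem cw17_7 : checkWordF [lkS tD, lkS tG, lkS tD, lkS tG, lkS tD, lkS tD] (7 * 8190) 8190 = true := by
  decide +kernel

theorem cw18_7 : checkWordF [lkS tE, lkS tF, lkS tE, lkS tF, lkS tD, lkS tD] (7 * 8190) 8190 = true := by
  decide +kernel

theorem cw19_7 : checkWordF [lkS tE, lkS tG, lkS tE, lkS tG, lkS tD, lkS tD] (7 * 8190) 8190 = true := by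
  decide +kernel

theorem cw1_0 : checkWordF [lkS tA, lkS tC, lkS tA, lkS tC] (0 * 8190) 8190 = true := by
  decide +kernel

theorem cw1_4 : checkWordF [lkS tA, lkS tC, lkS tA, lkS tC] (4 * 8190) 8190 = true := by
  decide +kernel

theorem cw20_1 : checkWordF [lkS tF, lkS tG, lkS tF, lkS tG, lkS tF, lkS tG, lkS tF, lkS tG] (1 * 8190) 8190 = true := by
  decide +kernel

theorem cw21_0 : checkWordF [lkS tA, lkS tD, lkS tC, lkS tD, lkS tC, lkS tD, lkS tC, lkS tD, lkS tC] (0 * 8190) 8190 = true := by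
  decide +kernel

theorem cw21_6 : checkWordF [lkS tA, lkS tD, lkS tC, lkS tD, lkS tC, lkS tD, lkS tC, lkS tD, lkS tC] (6 * 8190) 8190 = true := by
  decide +kernel

theorem cw24_5 : checkWordF [lkS tB, lkS tF, lkS tG, lkS tB, lkS tF, lkS tG, lkS tB, lkS tF, lkS tG, lkS tB, lkS tF, lkS tG, lkS tB, lkS tF, lkS tG] (5 * 8190) 8190 = true := by
  decide +kernel

theorem cw25_10 : checkWordF [lkS tB, lkS tC, lkS tD, lkS tC, lkS tD, lkS tB, lkS tC, lkS tD, lkS tC, lkS tD, lkS tB, lkS tC, lkS tD, lkS tC, lkS tD, lkS tB, lkS tC, lkS tD, lkS tC, lkS tD, lkS tB, lkS tC, lkS tD, lkS tC, lkS tD, lkS tE, lkS tB, lkS tC, lkS tD, lkS tC, lkS tD, lkS tB, lkS tC, lkS tD, lkS tC, lkS tD, lkS tB, lkS tC, lkS tD, lkS tC, lkS tD, lkS tB, lkS tC, lkS tD, lkS tC, lkS tD, lkS tB, lkS tC, lkS tD, lkS tC, lkS tD, lkS tE, lkS tB, lkS tC, lkS tD, lkS tC, lkS tD, lkS tB, lkS tC, lkS tD, lkS tC, lkS tD, lkS tB, lkS tC, lkS tD, lkS tC, lkS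 tD, lkS tB, lkS tC, lkS tD, lkS tC, lkS tD, lkS tB, lkS tC, lkS tD, lkS tC, lkS tD, lkS tE] (10 * 1872) 1872 = true := by
  decide +kernel

theorem cw25_18 : checkWordF [lkS tB, lkS tC, lkS tD, lkS tC, lkS tD, lkS tB, lkS tC, lkS tD, lkS tC, lkS tD, lkS tB, lkS tC, lkS tD, lkS tC, lkS tD, lkS tB, lkS tC, lkS tD, lkS tC, lkS tD, lkS tB, lkS tC, lkS tD, lkS tC, lkS tD, lkS tE, lkS tB, lkS tC, lkS tD, lkS tC, lkS tD, lkS tB, lkS tC, lkS tD, lkS tC, lkS tD, lkS tB, lkS tC, lkS tD, lkS tC, lkS tD, lkS tB, lkS tC, lkS tD, lkS tC, lkS tD, lkS tB, lkS tC, lkS tD, lkS tC, lkS tD, lkS tE, lkS tB, lkS tC, lkS tD, lkS tC, lkS tD, lkS tB, lkS tC, lkS tD, lkS tC, lkS tD, lkS tB, lkS tC, lkS tD, lkS tC, lkS tD, lkS tB, lkS tC, lkS tD, lkS tC, lkS tD, lkS tB, lkS tC, lkS tD, lkS tC, lkS tD, lkS tE] (18 * 1872) 1872 = true := by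
  decide +kernel

theorem cw25_2 : checkWordF [lkS tB, lkS tC, lkS tD, lkS tC, lkS tD, lkS tB, lkS tC, lkS tD, lkS tC, lkS tD, lkS tB, lkS tC, lkS tD, lkS tC, lkS tD, lkS tB, lkS tC, lkS tD, lkS tC, lkS tD, lkS tB, lkS tC, lkS tD, lkS tC, lkS tD, lkS tE, lkS tB, lkS tC, lkS tD, lkS tC, lkS tD, lkS tB, lkS tC, lkS tD, lkS tC, lkS tD, lkS tB, lkS tC, lkS tD, lkS tC, lkS tD, lkS tB, lkS tC, lkS tD, lkS tC, lkS tD, lkS tB, lkS tC, lkS tD, lkS tC, lkS tD, lkS tE, lkS tB, lkS tC, lkS tD, lkS tC, lkS tD, lkS tB, lkS tC, lkS tD, lkS tC, lkS tD, lkS tB, lkS tC, lkS tD, lkS tC, lkS tD, lkS tB, lkS tC, lkS tD, lkS tC, lkS tD, lkS tB, lkS tC, lkS tD, lkS tC, lkS tD, lkS tE] (2 * 1872) 1872 = true := by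
  decide +kernel

theorem cw25_26 : checkWordF [lkS tB, lkS tC, lkS tD, lkS tC, lkS tD, lkS tB, lkS tC, lkS tD, lkS tC, lkS tD, lkS tB, lkS tC, lkS tD, lkS tC, lkS tD, lkS tB, lkS tC, lkS tD, lkS tC, lkS tD, lkS tB, lkS tC, lkS tD, lkS tC, lkS tD, lkS tE, lkS tB, lkS tC, lkS tD, lkS tC, lkS tD, lkS tB, lkS tC, lkS tD, lkS tC, lkS tD, lkS tB, lkS tC, lkS tD, lkS tC, lkS tD, lkS tB, lkS tC, lkS tD, lkS tC, lkS tD, lkS tB, lkS tC, lkS tD, lkS tC, lkS tD, lkS tE, lkS tB, lkS tC, lkS tD, lkS tC, lkS tD, lkS tB, lkS tC, lkS tD, lkS tC, lkS tD, lkS tB, lkS tC, lkS tD, lkS tC, lkS tD, lkS tB, lkS tC, lkS tD, lkS tC, lkS tD, lkS tB, lkS tC, lkS tD, lkS tC, lkS tD, lkS tE] (26 * 1872) 1872 = true := by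
  decide +kernel

theorem cw25_34 : checkWordF [lkS tB, lkS tC, lkS tD, lkS tC, lkS tD, lkS tB, lkS tC, lkS tD, lkS tC, lkS tD, lkS tB, lkS tC, lkS tD, lkS tC, lkS tD, lkS tB, lkS tC, lkS tD, lkS tC, lkS tD, lkS tB, lkS tC, lkS tD, lkS tC, lkS tD, lkS tE, lkS tB, lkS tC, lkS tD, lkS tC, lkS tD, lkS tB, lkS tC, lkS tD, lkS tC, lkS tD, lkS tB, lkS tC, lkS tD, lkS tC, lkS tD, lkS tB, lkS tC, lkS tD, lkS tC, lkS tD, lkS tB, lkS tC, lkS tD, lkS tC, lkS tD, lkS tE, lkS tB, lkS tC, lkS tD, lkS tC, lkS tD, lkS tB, lkS tC, lkS tD, lkS tC, lkS tD, lkS tB, lkS tC, lkS tD, lkS tC, lkS tD, lkS tB, lkS tC, lkS tD, lkS tC, lkS tD, lkS tB, lkS tC, lkS tD, lkS tC, lkS tD, lkS tE] (34 * 1872) 1872 = true := by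
  decide +kernel

theorem cw26_7 : checkWordF [lkS tA, lkS tA] (7 * 8190) 8190 = true := by
  decide +kernel

theorem cw27_7 : checkWordF [lkS tB, lkS tB] (7 * 8190) 8190 = true := by
  decide +kernel

theorem cw28_7 : checkWordF [lkS tC, lkS tC] (7 * 8190) 8190 = true := by
  decide +kernel

theorem cw29_4 : checkWordF [lkS tD, lkS tD, lkS tD, lkS tD] (4 * 8190) 8190 = true := by
  decide +kernel

theorem cw2_1 : checkWordF [lkS tA, lkS tD, lkS tA, lkS tD, lkS tD, lkS tD] (1 * 8190) 8190 = true := by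
  decide +kernel

theorem cw2_7 : checkWordF [lkS tA, lkS tD, lkS tA, lkS tD, lkS tD, lkS tD] (7 * 8190) 8190 = true := by
  decide +kernel

theorem cw30_4 : checkWordF [lkS tE, lkS tE, lkS tD, lkS tD] (4 * 8190) 8190 = true := by
  decide +kernel

theorem cw31_7 : checkWordF [lkS tF, lkS tF] (7 * 8190) 8190 = true := by
  decide +kernel

theorem cw32_7 : checkWordF [lkS tG, lkS tG] (7 * 8190) 8190 = true := by
  decide +kernel

theorem cw34_7 : checkWordF [lkS tD, lkS tD, lkS tA, lkS tD, lkS tD, lkS tA] (7 * 8190) 8190 = true := by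
  decide +kernel

theorem cw35_7 : checkWordF [lkS tD, lkS tD, lkS tB, lkS tD, lkS tD, lkS tB] (7 * 8190) 8190 = true := by
  decide +kernel

theorem cw36_7 : checkWordF [lkS tD, lkS tD, lkS tC, lkS tD, lkS tD, lkS tC] (7 * 8190) 8190 = true := by
  decide +kernel

theorem cw37_7 : checkWordF [lkS tD, lkS tD, lkS tF, lkS tD, lkS tD, lkS tF] (7 * 8190) 8190 = true := by
  decide +kernel

theorem cw38_7 : checkWordF [lkS tD, lkS tD, lkS tG, lkS tD, lkS tD, lkS tG] (7 * 8190) 8190 = true := by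
  decide +kernel

theorem cw39_1 : checkWordF [lkS tD, lkS tD, lkS tE, lkS tD, lkS tD, lkS tE, lkS tE, lkS tE] (1 * 8190) 8190 = true := by
  decide +kernel

theorem cw3_7 : checkWordF [lkS tA, lkS tE, lkS tA, lkS tE, lkS tD, lkS tD] (7 * 8190) 8190 = true := by
  decide +kernel

theorem cw4_4 : checkWordF [lkS tA, lkS tF, lkS tA, lkS tF] (4 * 8190) 8190 = true := by
  decide +kernel

theorem cw5_4 : checkWordF [lkS tA, lkS tG, lkS tA, lkS tG] (4 * 8190) 8190 = true := by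
  decide +kernel

theorem cw6_7 : checkWordF [lkS tB, lkS tC, lkS tB, lkS tC, lkS tB, lkS tC] (7 * 8190) 8190 = true := by
  decide +kernel

theorem cw7_7 : checkWordF [lkS tB, lkS tD, lkS tB, lkS tD, lkS tD, lkS tD] (7 * 8190) 8190 = true := by
  decide +kernel

theorem cw8_7 : checkWordF [lkS tB, lkS tE, lkS tB, lkS tE, lkS tD, lkS tD] (7 * 8190) 8190 = true := by
  decide +kernel

theorem cw9_7 : checkWordF [lkS tB, lkS tF, lkS tB, lkS tF, lkS tB, lkS tF] (7 * 8190) 8190 = true := by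
  decide +kernel

theorem pr0_7 : checkWordF [lkS tA, lkS tA] (7 * 8190) 8190 = true := by
  decide +kernel

theorem pr1_7 : checkWordF [lkS tB, lkS tB] (7 * 8190) 8190 = true := by
  decide +kernel

theorem pr2_7 : checkWordF [lkS tC, lkS tC] (7 * 8190) 8190 = true := by
  decide +kernel

theorem pr3_7 : checkWordF [lkS tD, lkS tDi] (7 * 8190) 8190 = true := by
  decide +kernel

theorem pr4_7 : checkWordF [lkS tE, lkS tEi] (7 * 8190) 8190 = true := by
  decide +kernel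

theorem pr5_7 : checkWordF [lkS tF, lkS tF] (7 * 8190) 8190 = true := by
  decide +kernel

theorem pr6_7 : checkWordF [lkS tG, lkS tG] (7 * 8190) 8190 = true := by
  decide +kernel

theorem pri3_7 : checkWordF [lkS tDi, lkS tD] (7 * 8190) 8190 = true := by
  decide +kernel

theorem pri4_7 : checkWordF [lkS tEi, lkS tE] (7 * 8190) 8190 = true := by
  decide +kernel

theorem rg1_5 : checkRangeF (lkS tB) 65520 (5 * 8190) 8190 = true := by
  decide +kernel

theorem rg2_5 : checkRangeF (lkS tC) 65520 (5 * 8190) 8190 = true := by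
  decide +kernel

theorem rg3_5 : checkRangeF (lkS tD) 65520 (5 * 8190) 8190 = true := by
  decide +kernel

theorem rg4_5 : checkRangeF (lkS tE) 65520 (5 * 8190) 8190 = true := by
  decide +kernel

theorem rg5_5 : checkRangeF (lkS tF) 65520 (5 * 8190) 8190 = true := by
  decide +kernel

theorem rg6_5 : checkRangeF (lkS tG) 65520 (5 * 8190) 8190 = true := by
  decide +kernel

theorem rgi3_5 : checkRangeF (lkS tDi) 65520 (5 * 8190) 8190 = true := by
  decide +kernel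

theorem rgi4_5 : checkRangeF (lkS tEi) 65520 (5 * 8190) 8190 = true := by
  decide +kernel

end Cfsg.Agent.Lib.H25.SuzM2
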