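import Cfsg.Agent.Lib.H25.SuzM2.Tabs

set_option Elab.async false
set_option autoImplicit false
set_option maxRecDepth 1000000

/-! # S2048, piece M2: kernel computations on the monomial model of `2.Suz`, part 3 (helper25, generated) -/

namespace Cfsg.Agent.Lib.H25.SuzM2

open Cfsg.Agent.Lib.H25.PPT

theorem cw0_1 : checkWordF [lkS tA, lkS tB, lkS tA, lkS tB, lkS tA, lkS tB, lkS tA, lkS tB, lkS tA, lkS tB] (1 * 8190) 8190 = true := by
  decide +kernel

theorem cw0_4 : checkWordF [lkS tA, lkS tB, lkS tA, lkS tB, lkS tA, lkS tB, lkS tA, lkS tB, lkS tA, lkS tB] (4 * 8190) 8190 = true := by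
  decide +kernel

theorem cw10_4 : checkWordF [lkS tB, lkS tG, lkS tB, lkS tG, lkS tB, lkS tG] (4 * 8190) 8190 = true := by
  decide +kernel

theorem cw11_6 : checkWordF [lkS tC, lkS tD, lkS tC, lkS tD, lkS tC, lkS tD, lkS tC, lkS tD, lkS tC, lkS tD, lkS tC, lkS tD, lkS tC, lkS tD, lkS tC, lkS tD] (6 * 8190) 8190 = true := by
  decide +kernel

theorem cw12_4 : checkWordF [lkS tC, lkS tE, lkS tC, lkS tE, lkS tD, lkS tD] (4 * 8190) 8190 = true := by
  decide +kernel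

theorem cw13_5 : checkWordF [lkS tC, lkS tF, lkS tC, lkS tF] (5 * 8190) 8190 = true := by
  decide +kernel

theorem cw14_5 : checkWordF [lkS tC, lkS tG, lkS tC, lkS tG] (5 * 8190) 8190 = true := by
  decide +kernel

theorem cw15_4 : checkWordF [lkS tD, lkS tE, lkS tD, lkS tE, lkS tD, lkS tE, lkS tD, lkS tD] (4 * 8190) 8190 = true := by
  decide +kernel

theorem cw16_4 : checkWordF [lkS tD, lkS tF, lkS tD, lkS tF, lkS tD, lkS tD] (4 * 8190) 8190 = true := by
  decide +kernel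

theorem cw17_4 : checkWordF [lkS tD, lkS tG, lkS tD, lkS tG, lkS tD, lkS tD] (4 * 8190) 8190 = true := by
  decide +kernel

theorem cw18_4 : checkWordF [lkS tE, lkS tF, lkS tE, lkS tF, lkS tD, lkS tD] (4 * 8190) 8190 = true := by
  decide +kernel

theorem cw19_4 : checkWordF [lkS tE, lkS tG, lkS tE, lkS tG, lkS tD, lkS tD] (4 * 8190) 8190 = true := by
  decide +kernel

theorem cw1_5 : checkWordF [lkS tA, lkS tC, lkS tA, lkS tC] (5 * 8190) 8190 = true := by
  decide +kernel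

theorem cw20_4 : checkWordF [lkS tF, lkS tG, lkS tF, lkS tG, lkS tF, lkS tG, lkS tF, lkS tG] (4 * 8190) 8190 = true := by
  decide +kernel

theorem cw21_4 : checkWordF [lkS tA, lkS tD, lkS tC, lkS tD, lkS tC, lkS tD, lkS tC, lkS tD, lkS tC] (4 * 8190) 8190 = true := by
  decide +kernel

theorem cw22_4 : checkWordF [lkS tA, lkS tG, lkS tF, lkS tG, lkS tF] (4 * 8190) 8190 = true := by
  decide +kernel

theorem cw23_0 : checkWordF [lkS tA, lkS tB, lkS tC, lkS tF, lkS tA, lkS tB, lkS tC, lkS tF, lkS tA, lkS tB, lkS tC, lkS tF, lkS tA, lkS tB, lkS tC, lkS tF, lkS tA, lkS tB, lkS tC, lkS tF, lkS tD, lkS tD] (0 * 6552) 6552 = true := by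
  decide +kernel

theorem cw23_5 : checkWordF [lkS tA, lkS tB, lkS tC, lkS tF, lkS tA, lkS tB, lkS tC, lkS tF, lkS tA, lkS tB, lkS tC, lkS tF, lkS tA, lkS tB, lkS tC, lkS tF, lkS tA, lkS tB, lkS tC, lkS tF, lkS tD, lkS tD] (5 * 6552) 6552 = true := by
  decide +kernel

theorem cw25_11 : checkWordF [lkS tB, lkS tC, lkS tD, lkS tC, lkS tD, lkS tB, lkS tC, lkS tD, lkS tC, lkS tD, lkS tB, lkS tC, lkS tD, lkS tC, lkS tD, lkS tB, lkS tC, lkS tD, lkS tC, lkS tD, lkS tB, lkS tC, lkS tD, lkS tC, lkS tD, lkS tE, lkS tB, lkS tC, lkS tD, lkS tC, lkS tD, lkS tB, lkS tC, lkS tD, lkS tC, lkS tD, lkS tB, lkS tC, lkS tD, lkS tC, lkS tD, lkS tB, lkS tC, lkS tD, lkS tC, lkS tD, lkS tB, lkS tC, lkS tD, lkS tC, lkS tD, lkS tE, lkS tB, lkS tC, lkS tD, lkS tC, lkS tD, lkS tB, lkS tC, lkS tD, lkS tC, lkS tD, lkS tB, lkS tC, lkS tD, lkS tC, lkS tD, lkS tB, lkS tC, lkS tD, lkS tC, lkS tD, lkS tB, lkS tC, lkS tD, lkS tC, lkS tD, lkS tE] (11 *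 1872) 1872 = true := by
  decide +kernel

theorem cw25_19 : checkWordF [lkS tB, lkS tC, lkS tD, lkS tC, lkS tD, lkS tB, lkS tC, lkS tD, lkS tC, lkS tD, lkS tB, lkS tC, lkS tD, lkS tC, lkS tD, lkS tB, lkS tC, lkS tD, lkS tC, lkS tD, lkS tB, lkS tC, lkS tD, lkS tC, lkS tD, lkS tE, lkS tB, lkS tC, lkS tD, lkS tC, lkS tD, lkS tB, lkS tC, lkS tD, lkS tC, lkS tD, lkS tB, lkS tC, lkS tD, lkS tC, lkS tD, lkS tB, lkS tC, lkS tD, lkS tC, lkS tD, lkS tB, lkS tC, lkS tD, lkS tC, lkS tD, lkS tE, lkS tB, lkS tC, lkS tD, lkS tC, lkS tD, lkS tB, lkS tC, lkS tD, lkS tC, lkS tD, lkS tB, lkS tC, lkS tD, lkS tC, lkS tD, lkS tB, lkS tC, lkS tD, lkS tC, lkS tD, lkS tB, lkS tC, lkS tD, lkS tC, lkS tD, lkS tE] (19 * 1872) 1872 = true := by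
  decide +kernel

theorem cw25_27 : checkWordF [lkS tB, lkS tC, lkS tD, lkS tC, lkS tD, lkS tB, lkS tC, lkS tD, lkS tC, lkS tD, lkS tB, lkS tC, lkS tD, lkS tC, lkS tD, lkS tB, lkS tC, lkS tD, lkS tC, lkS tD, lkS tB, lkS tC, lkS tD, lkS tC, lkS tD, lkS tE, lkS tB, lkS tC, lkS tD, lkS tC, lkS tD, lkS tB, lkS tC, lkS tD, lkS tC, lkS tD, lkS tB, lkS tC, lkS tD, lkS tC, lkS tD, lkS tB, lkS tC, lkS tD, lkS tC, lkS tD, lkS tB, lkS tC, lkS tD, lkS tC, lkS tD, lkS tE, lkS tB, lkS tC, lkS tD, lkS tC, lkS tD, lkS tB, lkS tC, lkS tD, lkS tC, lkS tD, lkS tB, lkS tC, lkS tD, lkS tC, lkS tD, lkS tB, lkS tC, lkS tD, lkS tC, lkS tD, lkS tB, lkS tC, lkS tD, lkS tC, lkS tD, lkS tE] (27 * 1872) 1872 = true := by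
  decide +kernel

theorem cw25_3 : checkWordF [lkS tB, lkS tC, lkS tD, lkS tC, lkS tD, lkS tB, lkS tC, lkS tD, lkS tC, lkS tD, lkS tB, lkS tC, lkS tD, lkS tC, lkS tD, lkS tB, lkS tC, lkS tD, lkS tC, lkS tD, lkS tB, lkS tC, lkS tD, lkS tC, lkS tD, lkS tE, lkS tB, lkS tC, lkS tD, lkS tC, lkS tD, lkS tB, lkS tC, lkS tD, lkS tC, lkS tD, lkS tB, lkS tC, lkS tD, lkS tC, lkS tD, lkS tB, lkS tC, lkS tD, lkS tC, lkS tD, lkS tB, lkS tC, lkS tD, lkS tC, lkS tD, lkS tE, lkS tB, lkS tC, lkS tD, lkS tC, lkS tD, lkS tB, lkS tC, lkS tD, lkS tC, lkS tD, lkS tB, lkS tC, lkS tD, lkS tC, lkS tD, lkS tB, lkS tC, lkS tD, lkS tC, lkS tD, lkS tB, lkS tC, lkS tD, lkS tC, lkS tD, lkS tE] (3 * 1872) 1872 = true := by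
  decide +kernel

theorem cw26_0 : checkWordF [lkS tA, lkS tA] (0 * 8190) 8190 = true := by
  decide +kernel

theorem cw27_0 : checkWordF [lkS tB, lkS tB] (0 * 8190) 8190 = true := by
  decide +kernel

theorem cw28_0 : checkWordF [lkS tC, lkS tC] (0 * 8190) 8190 = true := by
  decide +kernel

theorem cw29_5 : checkWordF [lkS tD, lkS tD, lkS tD, lkS tD] (5 * 8190) 8190 = true := by
  decide +kernel

theorem cw2_4 : checkWordF [lkS tA, lkS tD, lkS tA, lkS tD, lkS tD, lkS tD] (4 * 8190) 8190 = true := by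
  decide +kernel

theorem cw30_5 : checkWordF [lkS tE, lkS tE, lkS tD, lkS tD] (5 * 8190) 8190 = true := by
  decide +kernel

theorem cw31_0 : checkWordF [lkS tF, lkS tF] (0 * 8190) 8190 = true := by
  decide +kernel

theorem cw32_0 : checkWordF [lkS tG, lkS tG] (0 * 8190) 8190 = true := by
  decide +kernel

theorem cw34_4 : checkWordF [lkS tD, lkS tD, lkS tA, lkS tD, lkS tD, lkS tA] (4 * 8190) 8190 = true := by
  decide +kernel

theorem cw35_4 : checkWordF [lkS tD, lkS tD, lkS tB, lkS tD, lkS tD, lkS tB] (4 * 8190) 8190 = true := by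
  decide +kernel

theorem cw36_4 : checkWordF [lkS tD, lkS tD, lkS tC, lkS tD, lkS tD, lkS tC] (4 * 8190) 8190 = true := by
  decide +kernel

theorem cw37_4 : checkWordF [lkS tD, lkS tD, lkS tF, lkS tD, lkS tD, lkS tF] (4 * 8190) 8190 = true := by
  decide +kernel

theorem cw38_4 : checkWordF [lkS tD, lkS tD, lkS tG, lkS tD, lkS tD, lkS tG] (4 * 8190) 8190 = true := by
  decide +kernel

theorem cw39_4 : checkWordF [lkS tD, lkS tD, lkS tE, lkS tD, lkS tD, lkS tE, lkS tE, lkS tE] (4 * 8190) 8190 = true := by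
  decide +kernel

theorem cw3_4 : checkWordF [lkS tA, lkS tE, lkS tA, lkS tE, lkS tD, lkS tD] (4 * 8190) 8190 = true := by
  decide +kernel

theorem cw4_5 : checkWordF [lkS tA, lkS tF, lkS tA, lkS tF] (5 * 8190) 8190 = true := by
  decide +kernel

theorem cw5_5 : checkWordF [lkS tA, lkS tG, lkS tA, lkS tG] (5 * 8190) 8190 = true := by
  decide +kernel

theorem cw6_4 : checkWordF [lkS tB, lkS tC, lkS tB, lkS tC, lkS tB, lkS tC] (4 * 8190) 8190 = true := by
  decide +kernel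

theorem cw7_4 : checkWordF [lkS tB, lkS tD, lkS tB, lkS tD, lkS tD, lkS tD] (4 * 8190) 8190 = true := by
  decide +kernel

theorem cw8_4 : checkWordF [lkS tB, lkS tE, lkS tB, lkS tE, lkS tD, lkS tD] (4 * 8190) 8190 = true := by
  decide +kernel

theorem cw9_4 : checkWordF [lkS tB, lkS tF, lkS tB, lkS tF, lkS tB, lkS tF] (4 * 8190) 8190 = true := by
  decide +kernel

theorem pr1_0 : checkWordF [lkS tB, lkS tB] (0 * 8190) 8190 = true := by
  decide +kernel

theorem pr2_0 : checkWordF [lkS tC, lkS tC] (0 * 8190) 8190 = true := by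
  decide +kernel

theorem pr3_0 : checkWordF [lkS tD, lkS tDi] (0 * 8190) 8190 = true := by
  decide +kernel

theorem pr4_0 : checkWordF [lkS tE, lkS tEi] (0 * 8190) 8190 = true := by
  decide +kernel

theorem pr5_0 : checkWordF [lkS tF, lkS tF] (0 * 8190) 8190 = true := by
  decide +kernel

theorem pr6_0 : checkWordF [lkS tG, lkS tG] (0 * 8190) 8190 = true := by
  decide +kernel

theorem pri3_0 : checkWordF [lkS tDi, lkS tD] (0 * 8190) 8190 = true := by
  decide +kernel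

theorem pri4_0 : checkWordF [lkS tEi, lkS tE] (0 * 8190) 8190 = true := by
  decide +kernel

theorem rg0_0 : checkRangeF (lkS tA) 65520 (0 * 8190) 8190 = true := by
  decide +kernel

theorem rg0_6 : checkRangeF (lkS tA) 65520 (6 * 8190) 8190 = true := by
  decide +kernel

theorem rg1_6 : checkRangeF (lkS tB) 65520 (6 * 8190) 8190 = true := by
  decide +kernel

theorem rg2_6 : checkRangeF (lkS tC) 65520 (6 * 8190) 8190 = true := by
  decide +kernel

theorem rg3_6 : checkRangeF (lkS tD) 65520 (6 * 8190) 8190 = true := by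
  decide +kernel

theorem rg4_6 : checkRangeF (lkS tE) 65520 (6 * 8190) 8190 = true := by
  decide +kernel

theorem rg5_6 : checkRangeF (lkS tF) 65520 (6 * 8190) 8190 = true := by
  decide +kernel

theorem rg6_6 : checkRangeF (lkS tG) 65520 (6 * 8190) 8190 = true := by
  decide +kernel

theorem rgi3_6 : checkRangeF (lkS tDi) 65520 (6 * 8190) 8190 = true := by
  decide +kernel

theorem rgi4_6 : checkRangeF (lkS tEi) 65520 (6 * 8190) 8190 = true := by
  decide +kernel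

end Cfsg.Agent.Lib.H25.SuzM2
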