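import Cfsg.Agent.Lib.H25.SuzM2.Tabs

set_option Elab.async false
set_option autoImplicit false
set_option maxRecDepth 1000000

/-! # S2048, piece M2: kernel computations on the monomial model of `2.Suz`, part 4 (helper25, generated) -/

namespace Cfsg.Agent.Lib.H25.SuzM2

open Cfsg.Agent.Lib.H25.PPT

theorem cw0_2 : checkWordF [lkS tA, lkS tB, lkS tA, lkS tB, lkS tA, lkS tB, lkS tA, lkS tB, lkS tA, lkS tB] (2 * 8190) 8190 = true := by
  decide +kernel

theorem cw0_5 : checkWordF [lkS tA, lkS tB, lkS tA, lkS tB, lkS tA, lkS tB, lkS tA, lkS tB, lkS tA, lkS tB] (5 * 8190) 8190 = true := by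
  decide +kernel

theorem cw10_5 : checkWordF [lkS tB, lkS tG, lkS tB, lkS tG, lkS tB, lkS tG] (5 * 8190) 8190 = true := by
  decide +kernel

theorem cw11_7 : checkWordF [lkS tC, lkS tD, lkS tC, lkS tD, lkS tC, lkS tD, lkS tC, lkS tD, lkS tC, lkS tD, lkS tC, lkS tD, lkS tC, lkS tD, lkS tC, lkS tD] (7 * 8190) 8190 = true := by
  decide +kernel

theorem cw12_5 : checkWordF [lkS tC, lkS tE, lkS tC, lkS tE, lkS tD, lkS tD] (5 * 8190) 8190 = true := by
  decide +kernel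

theorem cw13_6 : checkWordF [lkS tC, lkS tF, lkS tC, lkS tF] (6 * 8190) 8190 = true := by
  decide +kernel

theorem cw14_6 : checkWordF [lkS tC, lkS tG, lkS tC, lkS tG] (6 * 8190) 8190 = true := by
  decide +kernel

theorem cw15_5 : checkWordF [lkS tD, lkS tE, lkS tD, lkS tE, lkS tD, lkS tE, lkS tD, lkS tD] (5 * 8190) 8190 = true := by
  decide +kernel

theorem cw16_5 : checkWordF [lkS tD, lkS tF, lkS tD, lkS tF, lkS tD, lkS tD] (5 * 8190) 8190 = true := by
  decide +kernel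

theorem cw17_5 : checkWordF [lkS tD, lkS tG, lkS tD, lkS tG, lkS tD, lkS tD] (5 * 8190) 8190 = true := by
  decide +kernel

theorem cw18_5 : checkWordF [lkS tE, lkS tF, lkS tE, lkS tF, lkS tD, lkS tD] (5 * 8190) 8190 = true := by
  decide +kernel

theorem cw19_5 : checkWordF [lkS tE, lkS tG, lkS tE, lkS tG, lkS tD, lkS tD] (5 * 8190) 8190 = true := by
  decide +kernel

theorem cw1_6 : checkWordF [lkS tA, lkS tC, lkS tA, lkS tC] (6 * 8190) 8190 = true := by
  decide +kernel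

theorem cw20_5 : checkWordF [lkS tF, lkS tG, lkS tF, lkS tG, lkS tF, lkS tG, lkS tF, lkS tG] (5 * 8190) 8190 = true := by
  decide +kernel

theorem cw21_5 : checkWordF [lkS tA, lkS tD, lkS tC, lkS tD, lkS tC, lkS tD, lkS tC, lkS tD, lkS tC] (5 * 8190) 8190 = true := by
  decide +kernel

theorem cw22_5 : checkWordF [lkS tA, lkS tG, lkS tF, lkS tG, lkS tF] (5 * 8190) 8190 = true := by
  decide +kernel

theorem cw23_1 : checkWordF [lkS tA, lkS tB, lkS tC, lkS tF, lkS tA, lkS tB, lkS tC, lkS tF, lkS tA, lkS tB, lkS tC, lkS tF, lkS tA, lkS tB, lkS tC, lkS tF, lkS tA, lkS tB, lkS tC, lkS tF, lkS tD, lkS tD] (1 * 6552) 6552 = true := by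
  decide +kernel

theorem cw23_6 : checkWordF [lkS tA, lkS tB, lkS tC, lkS tF, lkS tA, lkS tB, lkS tC, lkS tF, lkS tA, lkS tB, lkS tC, lkS tF, lkS tA, lkS tB, lkS tC, lkS tF, lkS tA, lkS tB, lkS tC, lkS tF, lkS tD, lkS tD] (6 * 6552) 6552 = true := by
  decide +kernel

theorem cw25_12 : checkWordF [lkS tB, lkS tC, lkS tD, lkS tC, lkS tD, lkS tB, lkS tC, lkS tD, lkS tC, lkS tD, lkS tB, lkS tC, lkS tD, lkS tC, lkS tD, lkS tB, lkS tC, lkS tD, lkS tC, lkS tD, lkS tB, lkS tC, lkS tD, lkS tC, lkS tD, lkS tE, lkS tB, lkS tC, lkS tD, lkS tC, lkS tD, lkS tB, lkS tC, lkS tD, lkS tC, lkS tD, lkS tB, lkS tC, lkS tD, lkS tC, lkS tD, lkS tB, lkS tC, lkS tD, lkS tC, lkS tD, lkS tB, lkS tC, lkS tD, lkS tC, lkS tD, lkS tE, lkS tB, lkS tC, lkS tD, lkS tC, lkS tD, lkS tB, lkS tC, lkS tD, lkS tC, lkS tD, lkS tB, lkS tC, lkS tD, lkS tC, lkS tD, lkS tB, lkS tC, lkS tD, lkS tC, lkS tD, lkS tB, lkS tC, lkS tD, lkS tC, lkS tD, lkS tE] (12 *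 1872) 1872 = true := by
  decide +kernel

theorem cw25_20 : checkWordF [lkS tB, lkS tC, lkS tD, lkS tC, lkS tD, lkS tB, lkS tC, lkS tD, lkS tC, lkS tD, lkS tB, lkS tC, lkS tD, lkS tC, lkS tD, lkS tB, lkS tC, lkS tD, lkS tC, lkS tD, lkS tB, lkS tC, lkS tD, lkS tC, lkS tD, lkS tE, lkS tB, lkS tC, lkS tD, lkS tC, lkS tD, lkS tB, lkS tC, lkS tD, lkS tC, lkS tD, lkS tB, lkS tC, lkS tD, lkS tC, lkS tD, lkS tB, lkS tC, lkS tD, lkS tC, lkS tD, lkS tB, lkS tC, lkS tD, lkS tC, lkS tD, lkS tE, lkS tB, lkS tC, lkS tD, lkS tC, lkS tD, lkS tB, lkS tC, lkS tD, lkS tC, lkS tD, lkS tB, lkS tC, lkS tD, lkS tC, lkS tD, lkS tB, lkS tC, lkS tD, lkS tC, lkS tD, lkS tB, lkS tC, lkS tD, lkS tC, lkS tD, lkS tE] (20 * 1872) 1872 = true := by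
  decide +kernel

theorem cw25_28 : checkWordF [lkS tB, lkS tC, lkS tD, lkS tC, lkS tD, lkS tB, lkS tC, lkS tD, lkS tC, lkS tD, lkS tB, lkS tC, lkS tD, lkS tC, lkS tD, lkS tB, lkS tC, lkS tD, lkS tC, lkS tD, lkS tB, lkS tC, lkS tD, lkS tC, lkS tD, lkS tE, lkS tB, lkS tC, lkS tD, lkS tC, lkS tD, lkS tB, lkS tC, lkS tD, lkS tC, lkS tD, lkS tB, lkS tC, lkS tD, lkS tC, lkS tD, lkS tB, lkS tC, lkS tD, lkS tC, lkS tD, lkS tB, lkS tC, lkS tD, lkS tC, lkS tD, lkS tE, lkS tB, lkS tC, lkS tD, lkS tC, lkS tD, lkS tB, lkS tC, lkS tD, lkS tC, lkS tD, lkS tB, lkS tC, lkS tD, lkS tC, lkS tD, lkS tB, lkS tC, lkS tD, lkS tC, lkS tD, lkS tB, lkS tC, lkS tD, lkS tC, lkS tD, lkS tE] (28 * 1872) 1872 = true := by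
  decide +kernel

theorem cw25_4 : checkWordF [lkS tB, lkS tC, lkS tD, lkS tC, lkS tD, lkS tB, lkS tC, lkS tD, lkS tC, lkS tD, lkS tB, lkS tC, lkS tD, lkS tC, lkS tD, lkS tB, lkS tC, lkS tD, lkS tC, lkS tD, lkS tB, lkS tC, lkS tD, lkS tC, lkS tD, lkS tE, lkS tB, lkS tC, lkS tD, lkS tC, lkS tD, lkS tB, lkS tC, lkS tD, lkS tC, lkS tD, lkS tB, lkS tC, lkS tD, lkS tC, lkS tD, lkS tB, lkS tC, lkS tD, lkS tC, lkS tD, lkS tB, lkS tC, lkS tD, lkS tC, lkS tD, lkS tE, lkS tB, lkS tC, lkS tD, lkS tC, lkS tD, lkS tB, lkS tC, lkS tD, lkS tC, lkS tD, lkS tB, lkS tC, lkS tD, lkS tC, lkS tD, lkS tB, lkS tC, lkS tD, lkS tC, lkS tD, lkS tB, lkS tC, lkS tD, lkS tC, lkS tD, lkS tE] (4 * 1872) 1872 = true := by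
  decide +kernel

theorem cw26_1 : checkWordF [lkS tA, lkS tA] (1 * 8190) 8190 = true := by
  decide +kernel

theorem cw27_1 : checkWordF [lkS tB, lkS tB] (1 * 8190) 8190 = true := by
  decide +kernel

theorem cw28_1 : checkWordF [lkS tC, lkS tC] (1 * 8190) 8190 = true := by
  decide +kernel

theorem cw29_6 : checkWordF [lkS tD, lkS tD, lkS tD, lkS tD] (6 * 8190) 8190 = true := by
  decide +kernel

theorem cw2_5 : checkWordF [lkS tA, lkS tD, lkS tA, lkS tD, lkS tD, lkS tD] (5 * 8190) 8190 = true := by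
  decide +kernel

theorem cw30_6 : checkWordF [lkS tE, lkS tE, lkS tD, lkS tD] (6 * 8190) 8190 = true := by
  decide +kernel

theorem cw31_1 : checkWordF [lkS tF, lkS tF] (1 * 8190) 8190 = true := by
  decide +kernel

theorem cw32_1 : checkWordF [lkS tG, lkS tG] (1 * 8190) 8190 = true := by
  decide +kernel

theorem cw34_5 : checkWordF [lkS tD, lkS tD, lkS tA, lkS tD, lkS tD, lkS tA] (5 * 8190) 8190 = true := by
  decide +kernel

theorem cw35_5 : checkWordF [lkS tD, lkS tD, lkS tB, lkS tD, lkS tD, lkS tB] (5 * 8190) 8190 = true := by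
  decide +kernel

theorem cw36_5 : checkWordF [lkS tD, lkS tD, lkS tC, lkS tD, lkS tD, lkS tC] (5 * 8190) 8190 = true := by
  decide +kernel

theorem cw37_5 : checkWordF [lkS tD, lkS tD, lkS tF, lkS tD, lkS tD, lkS tF] (5 * 8190) 8190 = true := by
  decide +kernel

theorem cw38_5 : checkWordF [lkS tD, lkS tD, lkS tG, lkS tD, lkS tD, lkS tG] (5 * 8190) 8190 = true := by
  decide +kernel

theorem cw39_5 : checkWordF [lkS tD, lkS tD, lkS tE, lkS tD, lkS tD, lkS tE, lkS tE, lkS tE] (5 * 8190) 8190 = true := by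
  decide +kernel

theorem cw3_5 : checkWordF [lkS tA, lkS tE, lkS tA, lkS tE, lkS tD, lkS tD] (5 * 8190) 8190 = true := by
  decide +kernel

theorem cw4_6 : checkWordF [lkS tA, lkS tF, lkS tA, lkS tF] (6 * 8190) 8190 = true := by
  decide +kernel

theorem cw5_6 : checkWordF [lkS tA, lkS tG, lkS tA, lkS tG] (6 * 8190) 8190 = true := by
  decide +kernel

theorem cw6_5 : checkWordF [lkS tB, lkS tC, lkS tB, lkS tC, lkS tB, lkS tC] (5 * 8190) 8190 = true := by
  decide +kernel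

theorem cw7_5 : checkWordF [lkS tB, lkS tD, lkS tB, lkS tD, lkS tD, lkS tD] (5 * 8190) 8190 = true := by
  decide +kernel

theorem cw8_5 : checkWordF [lkS tB, lkS tE, lkS tB, lkS tE, lkS tD, lkS tD] (5 * 8190) 8190 = true := by
  decide +kernel

theorem cw9_5 : checkWordF [lkS tB, lkS tF, lkS tB, lkS tF, lkS tB, lkS tF] (5 * 8190) 8190 = true := by
  decide +kernel

theorem pr1_1 : checkWordF [lkS tB, lkS tB] (1 * 8190) 8190 = true := by
  decide +kernel

theorem pr2_1 : checkWordF [lkS tC, lkS tC] (1 * 8190) 8190 = true := by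
  decide +kernel

theorem pr3_1 : checkWordF [lkS tD, lkS tDi] (1 * 8190) 8190 = true := by
  decide +kernel

theorem pr4_1 : checkWordF [lkS tE, lkS tEi] (1 * 8190) 8190 = true := by
  decide +kernel

theorem pr5_1 : checkWordF [lkS tF, lkS tF] (1 * 8190) 8190 = true := by
  decide +kernel

theorem pr6_1 : checkWordF [lkS tG, lkS tG] (1 * 8190) 8190 = true := by
  decide +kernel

theorem pri3_1 : checkWordF [lkS tDi, lkS tD] (1 * 8190) 8190 = true := by
  decide +kernel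

theorem pri4_1 : checkWordF [lkS tEi, lkS tE] (1 * 8190) 8190 = true := by
  decide +kernel

theorem rg0_1 : checkRangeF (lkS tA) 65520 (1 * 8190) 8190 = true := by
  decide +kernel

theorem rg0_7 : checkRangeF (lkS tA) 65520 (7 * 8190) 8190 = true := by
  decide +kernel

theorem rg1_7 : checkRangeF (lkS tB) 65520 (7 * 8190) 8190 = true := by
  decide +kernel

theorem rg2_7 : checkRangeF (lkS tC) 65520 (7 * 8190) 8190 = true := by
  decide +kernel

theorem rg3_7 : checkRangeF (lkS tD) 65520 (7 * 8190) 8190 = true := by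
  decide +kernel

theorem rg4_7 : checkRangeF (lkS tE) 65520 (7 * 8190) 8190 = true := by
  decide +kernel

theorem rg5_7 : checkRangeF (lkS tF) 65520 (7 * 8190) 8190 = true := by
  decide +kernel

theorem rg6_7 : checkRangeF (lkS tG) 65520 (7 * 8190) 8190 = true := by
  decide +kernel

theorem rgi3_7 : checkRangeF (lkS tDi) 65520 (7 * 8190) 8190 = true := by
  decide +kernel

theorem rgi4_7 : checkRangeF (lkS tEi) 65520 (7 * 8190) 8190 = true := by
  decide +kernel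

end Cfsg.Agent.Lib.H25.SuzM2
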