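import Cfsg.Agent.Lib.H25.SuzM2.Tabs

set_option Elab.async false
set_option autoImplicit false
set_option maxRecDepth 1000000

/-! # S2048, piece M2: kernel computations on the monomial model of `2.Suz`, part 5 (helper25, generated) -/

namespace Cfsg.Agent.Lib.H25.SuzM2

open Cfsg.Agent.Lib.H25.PPT

theorem cw10_0 : checkWordF [lkS tB, lkS tG, lkS tB, lkS tG, lkS tB, lkS tG] (0 * 8190) 8190 = true := by
  decide +kernel

theorem cw12_0 : checkWordF [lkS tC, lkS tE, lkS tC, lkS tE, lkS tD, lkS tD] (0 * 8190) 8190 = true := by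
  decide +kernel

theorem cw13_7 : checkWordF [lkS tC, lkS tF, lkS tC, lkS tF] (7 * 8190) 8190 = true := by
  decide +kernel

theorem cw14_7 : checkWordF [lkS tC, lkS tG, lkS tC, lkS tG] (7 * 8190) 8190 = true := by
  decide +kernel

theorem cw16_0 : checkWordF [lkS tD, lkS tF, lkS tD, lkS tF, lkS tD, lkS tD] (0 * 8190) 8190 = true := by
  decide +kernel

theorem cw17_0 : checkWordF [lkS tD, lkS tG, lkS tD, lkS tG, lkS tD, lkS tD] (0 * 8190) 8190 = true := by
  decide +kernel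

theorem cw18_0 : checkWordF [lkS tE, lkS tF, lkS tE, lkS tF, lkS tD, lkS tD] (0 * 8190) 8190 = true := by
  decide +kernel

theorem cw19_0 : checkWordF [lkS tE, lkS tG, lkS tE, lkS tG, lkS tD, lkS tD] (0 * 8190) 8190 = true := by
  decide +kernel

theorem cw1_7 : checkWordF [lkS tA, lkS tC, lkS tA, lkS tC] (7 * 8190) 8190 = true := by
  decide +kernel

theorem cw20_2 : checkWordF [lkS tF, lkS tG, lkS tF, lkS tG, lkS tF, lkS tG, lkS tF, lkS tG] (2 * 8190) 8190 = true := by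
  decide +kernel

theorem cw21_1 : checkWordF [lkS tA, lkS tD, lkS tC, lkS tD, lkS tC, lkS tD, lkS tC, lkS tD, lkS tC] (1 * 8190) 8190 = true := by
  decide +kernel

theorem cw21_7 : checkWordF [lkS tA, lkS tD, lkS tC, lkS tD, lkS tC, lkS tD, lkS tC, lkS tD, lkS tC] (7 * 8190) 8190 = true := by
  decide +kernel

theorem cw22_0 : checkWordF [lkS tA, lkS tG, lkS tF, lkS tG, lkS tF] (0 * 8190) 8190 = true := by
  decide +kernel

theorem cw22_6 : checkWordF [lkS tA, lkS tG, lkS tF, lkS tG, lkS tF] (6 * 8190) 8190 = true := by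
  decide +kernel

theorem cw23_2 : checkWordF [lkS tA, lkS tB, lkS tC, lkS tF, lkS tA, lkS tB, lkS tC, lkS tF, lkS tA, lkS tB, lkS tC, lkS tF, lkS tA, lkS tB, lkS tC, lkS tF, lkS tA, lkS tB, lkS tC, lkS tF, lkS tD, lkS tD] (2 * 6552) 6552 = true := by
  decide +kernel

theorem cw23_7 : checkWordF [lkS tA, lkS tB, lkS tC, lkS tF, lkS tA, lkS tB, lkS tC, lkS tF, lkS tA, lkS tB, lkS tC, lkS tF, lkS tA, lkS tB, lkS tC, lkS tF, lkS tA, lkS tB, lkS tC, lkS tF, lkS tD, lkS tD] (7 * 6552) 6552 = true := by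
  decide +kernel

theorem cw24_0 : checkWordF [lkS tB, lkS tF, lkS tG, lkS tB, lkS tF, lkS tG, lkS tB, lkS tF, lkS tG, lkS tB, lkS tF, lkS tG, lkS tB, lkS tF, lkS tG] (0 * 8190) 8190 = true := by
  decide +kernel

theorem cw24_6 : checkWordF [lkS tB, lkS tF, lkS tG, lkS tB, lkS tF, lkS tG, lkS tB, lkS tF, lkS tG, lkS tB, lkS tF, lkS tG, lkS tB, lkS tF, lkS tG] (6 * 8190) 8190 = true := by
  decide +kernel

theorem cw25_13 : checkWordF [lkS tB, lkS tC, lkS tD, lkS tC, lkS tD, lkS tB, lkS tC, lkS tD, lkS tC, lkS tD, lkS tB, lkS tC, lkS tD, lkS tC, lkS tD, lkS tB, lkS tC, lkS tD, lkS tC, lkS tD, lkS tB, lkS tC, lkS tD, lkS tC, lkS tD, lkS tE, lkS tB, lkS tC, lkS tD, lkS tC, lkS tD, lkS tB, lkS tC, lkS tD, lkS tC, lkS tD, lkS tB, lkS tC, lkS tD, lkS tC, lkS tD, lkS tB, lkS tC, lkS tD, lkS tC, lkS tD, lkS tB, lkS tC, lkS tD, lkS tC, lkS tD, lkS tE, lkS tB, lkS tC, lkS tD, lkS tC, lkS tD, lkS tB, lkS tC, lkS tD, lkS tC, lkS tD, lkS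 tB, lkS tC, lkS tD, lkS tC, lkS tD, lkS tB, lkS tC, lkS tD, lkS tC, lkS tD, lkS tB, lkS tC, lkS tD, lkS tC, lkS tD, lkS tE] (13 * 1872) 1872 = true := by
  decide +kernel

theorem cw25_21 : checkWordF [lkS tB, lkS tC, lkS tD, lkS tC, lkS tD, lkS tB, lkS tC, lkS tD, lkS tC, lkS tD, lkS tB, lkS tC, lkS tD, lkS tC, lkS tD, lkS tB, lkS tC, lkS tD, lkS tC, lkS tD, lkS tB, lkS tC, lkS tD, lkS tC, lkS tD, lkS tE, lkS tB, lkS tC, lkS tD, lkS tC, lkS tD, lkS tB, lkS tC, lkS tD, lkS tC, lkS tD, lkS tB, lkS tC, lkS tD, lkS tC, lkS tD, lkS tB, lkS tC, lkS tD, lkS tC, lkS tD, lkS tB, lkS tC, lkS tD, lkS tC, lkS tD, lkS tE, lkS tB, lkS tC, lkS tD, lkS tC, lkS tD, lkS tB, lkS tC, lkS tD, lkS tC, lkS tD, lkS tB, lkS tC, lkS tD, lkS tC, lkS tD, lkS tB, lkS tC, lkS tD, lkS tC, lkS tD, lkS tB, lkS tC, lkS tD, lkS tC, lkS tD, lkS tE] (21 * 1872) 1872 = true := by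
  decide +kernel

theorem cw25_29 : checkWordF [lkS tB, lkS tC, lkS tD, lkS tC, lkS tD, lkS tB, lkS tC, lkS tD, lkS tC, lkS tD, lkS tB, lkS tC, lkS tD, lkS tC, lkS tD, lkS tB, lkS tC, lkS tD, lkS tC, lkS tD, lkS tB, lkS tC, lkS tD, lkS tC, lkS tD, lkS tE, lkS tB, lkS tC, lkS tD, lkS tC, lkS tD, lkS tB, lkS tC, lkS tD, lkS tC, lkS tD, lkS tB, lkS tC, lkS tD, lkS tC, lkS tD, lkS tB, lkS tC, lkS tD, lkS tC, lkS tD, lkS tB, lkS tC, lkS tD, lkS tC, lkS tD, lkS tE, lkS tB, lkS tC, lkS tD, lkS tC, lkS tD, lkS tB, lkS tC, lkS tD, lkS tC, lkS tD, lkS tB, lkS tC, lkS tD, lkS tC, lkS tD, lkS tB, lkS tC, lkS tD, lkS tC, lkS tD, lkS tB, lkS tC, lkS tD, lkS tC, lkS tD, lkS tE] (29 * 1872) 1872 = true := by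
  decide +kernel

theorem cw25_5 : checkWordF [lkS tB, lkS tC, lkS tD, lkS tC, lkS tD, lkS tB, lkS tC, lkS tD, lkS tC, lkS tD, lkS tB, lkS tC, lkS tD, lkS tC, lkS tD, lkS tB, lkS tC, lkS tD, lkS tC, lkS tD, lkS tB, lkS tC, lkS tD, lkS tC, lkS tD, lkS tE, lkS tB, lkS tC, lkS tD, lkS tC, lkS tD, lkS tB, lkS tC, lkS tD, lkS tC, lkS tD, lkS tB, lkS tC, lkS tD, lkS tC, lkS tD, lkS tB, lkS tC, lkS tD, lkS tC, lkS tD, lkS tB, lkS tC, lkS tD, lkS tC, lkS tD, lkS tE, lkS tB, lkS tC, lkS tD, lkS tC, lkS tD, lkS tB, lkS tC, lkS tD, lkS tC, lkS tD, lkS tB, lkS tC, lkS tD, lkS tC, lkS tD, lkS tB, lkS tC, lkS tD, lkS tC, lkS tD, lkS tB, lkS tC, lkS tD, lkS tC, lkS tD, lkS tE] (5 * 1872) 1872 = true := by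
  decide +kernel

theorem cw26_2 : checkWordF [lkS tA, lkS tA] (2 * 8190) 8190 = true := by
  decide +kernel

theorem cw27_2 : checkWordF [lkS tB, lkS tB] (2 * 8190) 8190 = true := by
  decide +kernel

theorem cw28_2 : checkWordF [lkS tC, lkS tC] (2 * 8190) 8190 = true := by
  decide +kernel

theorem cw29_7 : checkWordF [lkS tD, lkS tD, lkS tD, lkS tD] (7 * 8190) 8190 = true := by
  decide +kernel

theorem cw2_2 : checkWordF [lkS tA, lkS tD, lkS tA, lkS tD, lkS tD, lkS tD] (2 * 8190) 8190 = true := by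
  decide +kernel

theorem cw30_7 : checkWordF [lkS tE, lkS tE, lkS tD, lkS tD] (7 * 8190) 8190 = true := by
  decide +kernel

theorem cw31_2 : checkWordF [lkS tF, lkS tF] (2 * 8190) 8190 = true := by
  decide +kernel

theorem cw32_2 : checkWordF [lkS tG, lkS tG] (2 * 8190) 8190 = true := by
  decide +kernel

theorem cw33_0 : checkWordF [] (0 * 8190) 8190 = true := by
  decide +kernel

theorem cw33_1 : checkWordF [] (1 * 8190) 8190 = true := by
  decide +kernel

theorem cw33_2 : checkWordF [] (2 * 8190) 8190 = true := by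
  decide +kernel

theorem cw33_3 : checkWordF [] (3 * 8190) 8190 = true := by
  decide +kernel

theorem cw33_4 : checkWordF [] (4 * 8190) 8190 = true := by
  decide +kernel

theorem cw33_5 : checkWordF [] (5 * 8190) 8190 = true := by
  decide +kernel

theorem cw33_6 : checkWordF [] (6 * 8190) 8190 = true := by
  decide +kernel

theorem cw33_7 : checkWordF [] (7 * 8190) 8190 = true := by
  decide +kernel

theorem cw34_0 : checkWordF [lkS tD, lkS tD, lkS tA, lkS tD, lkS tD, lkS tA] (0 * 8190) 8190 = true := by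
  decide +kernel

theorem cw35_0 : checkWordF [lkS tD, lkS tD, lkS tB, lkS tD, lkS tD, lkS tB] (0 * 8190) 8190 = true := by
  decide +kernel

theorem cw36_0 : checkWordF [lkS tD, lkS tD, lkS tC, lkS tD, lkS tD, lkS tC] (0 * 8190) 8190 = true := by
  decide +kernel

theorem cw37_0 : checkWordF [lkS tD, lkS tD, lkS tF, lkS tD, lkS tD, lkS tF] (0 * 8190) 8190 = true := by
  decide +kernel

theorem cw38_0 : checkWordF [lkS tD, lkS tD, lkS tG, lkS tD, lkS tD, lkS tG] (0 * 8190) 8190 = true := by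
  decide +kernel

theorem cw39_2 : checkWordF [lkS tD, lkS tD, lkS tE, lkS tD, lkS tD, lkS tE, lkS tE, lkS tE] (2 * 8190) 8190 = true := by
  decide +kernel

theorem cw3_0 : checkWordF [lkS tA, lkS tE, lkS tA, lkS tE, lkS tD, lkS tD] (0 * 8190) 8190 = true := by
  decide +kernel

theorem cw4_7 : checkWordF [lkS tA, lkS tF, lkS tA, lkS tF] (7 * 8190) 8190 = true := by
  decide +kernel

theorem cw5_7 : checkWordF [lkS tA, lkS tG, lkS tA, lkS tG] (7 * 8190) 8190 = true := by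
  decide +kernel

theorem cw6_0 : checkWordF [lkS tB, lkS tC, lkS tB, lkS tC, lkS tB, lkS tC] (0 * 8190) 8190 = true := by
  decide +kernel

theorem cw7_0 : checkWordF [lkS tB, lkS tD, lkS tB, lkS tD, lkS tD, lkS tD] (0 * 8190) 8190 = true := by
  decide +kernel

theorem cw8_0 : checkWordF [lkS tB, lkS tE, lkS tB, lkS tE, lkS tD, lkS tD] (0 * 8190) 8190 = true := by
  decide +kernel

theorem cw9_0 : checkWordF [lkS tB, lkS tF, lkS tB, lkS tF, lkS tB, lkS tF] (0 * 8190) 8190 = true := by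
  decide +kernel

theorem pr1_2 : checkWordF [lkS tB, lkS tB] (2 * 8190) 8190 = true := by
  decide +kernel

theorem pr2_2 : checkWordF [lkS tC, lkS tC] (2 * 8190) 8190 = true := by
  decide +kernel

theorem pr3_2 : checkWordF [lkS tD, lkS tDi] (2 * 8190) 8190 = true := by
  decide +kernel

theorem pr4_2 : checkWordF [lkS tE, lkS tEi] (2 * 8190) 8190 = true := by
  decide +kernel

theorem pr5_2 : checkWordF [lkS tF, lkS tF] (2 * 8190) 8190 = true := by
  decide +kernel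

theorem pr6_2 : checkWordF [lkS tG, lkS tG] (2 * 8190) 8190 = true := by
  decide +kernel

theorem pri3_2 : checkWordF [lkS tDi, lkS tD] (2 * 8190) 8190 = true := by
  decide +kernel

theorem pri4_2 : checkWordF [lkS tEi, lkS tE] (2 * 8190) 8190 = true := by
  decide +kernel

theorem rg0_2 : checkRangeF (lkS tA) 65520 (2 * 8190) 8190 = true := by
  decide +kernel

theorem rg1_0 : checkRangeF (lkS tB) 65520 (0 * 8190) 8190 = true := by
  decide +kernel

theorem rg2_0 : checkRangeF (lkS tC) 65520 (0 * 8190) 8190 = true := by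
  decide +kernel

theorem rg3_0 : checkRangeF (lkS tD) 65520 (0 * 8190) 8190 = true := by
  decide +kernel

theorem rg4_0 : checkRangeF (lkS tE) 65520 (0 * 8190) 8190 = true := by
  decide +kernel

theorem rg5_0 : checkRangeF (lkS tF) 65520 (0 * 8190) 8190 = true := by
  decide +kernel

theorem rg6_0 : checkRangeF (lkS tG) 65520 (0 * 8190) 8190 = true := by
  decide +kernel

theorem rgi3_0 : checkRangeF (lkS tDi) 65520 (0 * 8190) 8190 = true := by
  decide +kernel

theorem rgi4_0 : checkRangeF (lkS tEi) 65520 (0 * 8190) 8190 = true := by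
  decide +kernel

end Cfsg.Agent.Lib.H25.SuzM2
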