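import Cfsg.Agent.Lib.H25.SuzM2.Tabs

set_option Elab.async false
set_option autoImplicit false
set_option maxRecDepth 1000000

/-! # S2048, piece M2: kernel computations on the monomial model of `2.Suz`, part 6 (helper25, generated) -/

namespace Cfsg.Agent.Lib.H25.SuzM2

open Cfsg.Agent.Lib.H25.PPT

theorem cw10_1 : checkWordF [lkS tB, lkS tG, lkS tB, lkS tG, lkS tB, lkS tG] (1 * 8190) 8190 = true := by
  decide +kernel

theorem cw12_1 : checkWordF [lkS tC, lkS tE, lkS tC, lkS tE, lkS tD, lkS tD] (1 * 8190) 8190 = true := by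
  decide +kernel

theorem cw13_0 : checkWordF [lkS tC, lkS tF, lkS tC, lkS tF] (0 * 8190) 8190 = true := by
  decide +kernel

theorem cw14_0 : checkWordF [lkS tC, lkS tG, lkS tC, lkS tG] (0 * 8190) 8190 = true := by
  decide +kernel

theorem cw15_0 : checkWordF [lkS tD, lkS tE, lkS tD, lkS tE, lkS tD, lkS tE, lkS tD, lkS tD] (0 * 8190) 8190 = true := by
  decide +kernel

theorem cw15_6 : checkWordF [lkS tD, lkS tE, lkS tD, lkS tE, lkS tD, lkS tE, lkS tD, lkS tD] (6 * 8190) 8190 = true := by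
  decide +kernel

theorem cw16_1 : checkWordF [lkS tD, lkS tF, lkS tD, lkS tF, lkS tD, lkS tD] (1 * 8190) 8190 = true := by
  decide +kernel

theorem cw17_1 : checkWordF [lkS tD, lkS tG, lkS tD, lkS tG, lkS tD, lkS tD] (1 * 8190) 8190 = true := by
  decide +kernel

theorem cw18_1 : checkWordF [lkS tE, lkS tF, lkS tE, lkS tF, lkS tD, lkS tD] (1 * 8190) 8190 = true := by
  decide +kernel

theorem cw19_1 : checkWordF [lkS tE, lkS tG, lkS tE, lkS tG, lkS tD, lkS tD] (1 * 8190) 8190 = true := by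
  decide +kernel

theorem cw1_1 : checkWordF [lkS tA, lkS tC, lkS tA, lkS tC] (1 * 8190) 8190 = true := by
  decide +kernel

theorem cw20_6 : checkWordF [lkS tF, lkS tG, lkS tF, lkS tG, lkS tF, lkS tG, lkS tF, lkS tG] (6 * 8190) 8190 = true := by
  decide +kernel

theorem cw21_2 : checkWordF [lkS tA, lkS tD, lkS tC, lkS tD, lkS tC, lkS tD, lkS tC, lkS tD, lkS tC] (2 * 8190) 8190 = true := by
  decide +kernel

theorem cw22_1 : checkWordF [lkS tA, lkS tG, lkS tF, lkS tG, lkS tF] (1 * 8190) 8190 = true := by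
  decide +kernel

theorem cw23_3 : checkWordF [lkS tA, lkS tB, lkS tC, lkS tF, lkS tA, lkS tB, lkS tC, lkS tF, lkS tA, lkS tB, lkS tC, lkS tF, lkS tA, lkS tB, lkS tC, lkS tF, lkS tA, lkS tB, lkS tC, lkS tF, lkS tD, lkS tD] (3 * 6552) 6552 = true := by
  decide +kernel

theorem cw23_8 : checkWordF [lkS tA, lkS tB, lkS tC, lkS tF, lkS tA, lkS tB, lkS tC, lkS tF, lkS tA, lkS tB, lkS tC, lkS tF, lkS tA, lkS tB, lkS tC, lkS tF, lkS tA, lkS tB, lkS tC, lkS tF, lkS tD, lkS tD] (8 * 6552) 6552 = true := by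
  decide +kernel

theorem cw24_1 : checkWordF [lkS tB, lkS tF, lkS tG, lkS tB, lkS tF, lkS tG, lkS tB, lkS tF, lkS tG, lkS tB, lkS tF, lkS tG, lkS tB, lkS tF, lkS tG] (1 * 8190) 8190 = true := by
  decide +kernel

theorem cw24_7 : checkWordF [lkS tB, lkS tF, lkS tG, lkS tB, lkS tF, lkS tG, lkS tB, lkS tF, lkS tG, lkS tB, lkS tF, lkS tG, lkS tB, lkS tF, lkS tG] (7 * 8190) 8190 = true := by
  decide +kernel

theorem cw25_14 : checkWordF [lkS tB, lkS tC, lkS tD, lkS tC, lkS tD, lkS tB, lkS tC, lkS tD, lkS tC, lkS tD, lkS tB, lkS tC, lkS tD, lkS tC, lkS tD, lkS tB, lkS tC, lkS tD, lkS tC, lkS tD, lkS tB, lkS tC, lkS tD, lkS tC, lkS tD, lkS tE, lkS tB, lkS tC, lkS tD, lkS tC, lkS tD, lkS tB, lkS tC, lkS tD, lkS tC, lkS tD, lkS tB, lkS tC, lkS tD, lkS tC, lkS tD, lkS tB, lkS tC, lkS tD, lkS tC, lkS tD, lkS tB, lkS tC, lkS tD, lkS tC, lkS tD, lkS tE, lkS tB, lkS tC, lkS tD, lkS tC, lkS tD, lkS tB, lkS tC, lkS tD, lkS tC, lkS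 tD, lkS tB, lkS tC, lkS tD, lkS tC, lkS tD, lkS tB, lkS tC, lkS tD, lkS tC, lkS tD, lkS tB, lkS tC, lkS tD, lkS tC, lkS tD, lkS tE] (14 * 1872) 1872 = true := by
  decide +kernel

theorem cw25_22 : checkWordF [lkS tB, lkS tC, lkS tD, lkS tC, lkS tD, lkS tB, lkS tC, lkS tD, lkS tC, lkS tD, lkS tB, lkS tC, lkS tD, lkS tC, lkS tD, lkS tB, lkS tC, lkS tD, lkS tC, lkS tD, lkS tB, lkS tC, lkS tD, lkS tC, lkS tD, lkS tE, lkS tB, lkS tC, lkS tD, lkS tC, lkS tD, lkS tB, lkS tC, lkS tD, lkS tC, lkS tD, lkS tB, lkS tC, lkS tD, lkS tC, lkS tD, lkS tB, lkS tC, lkS tD, lkS tC, lkS tD, lkS tB, lkS tC, lkS tD, lkS tC, lkS tD, lkS tE, lkS tB, lkS tC, lkS tD, lkS tC, lkS tD, lkS tB, lkS tC, lkS tD, lkS tC, lkS tD, lkS tB, lkS tC, lkS tD, lkS tC, lkS tD, lkS tB, lkS tC, lkS tD, lkS tC, lkS tD, lkS tB, lkS tC, lkS tD, lkS tC, lkS tD, lkS tE] (22 * 1872) 1872 = true := by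
  decide +kernel

theorem cw25_30 : checkWordF [lkS tB, lkS tC, lkS tD, lkS tC, lkS tD, lkS tB, lkS tC, lkS tD, lkS tC, lkS tD, lkS tB, lkS tC, lkS tD, lkS tC, lkS tD, lkS tB, lkS tC, lkS tD, lkS tC, lkS tD, lkS tB, lkS tC, lkS tD, lkS tC, lkS tD, lkS tE, lkS tB, lkS tC, lkS tD, lkS tC, lkS tD, lkS tB, lkS tC, lkS tD, lkS tC, lkS tD, lkS tB, lkS tC, lkS tD, lkS tC, lkS tD, lkS tB, lkS tC, lkS tD, lkS tC, lkS tD, lkS tB, lkS tC, lkS tD, lkS tC, lkS tD, lkS tE, lkS tB, lkS tC, lkS tD, lkS tC, lkS tD, lkS tB, lkS tC, lkS tD, lkS tC, lkS tD, lkS tB, lkS tC, lkS tD, lkS tC, lkS tD, lkS tB, lkS tC, lkS tD, lkS tC, lkS tD, lkS tB, lkS tC, lkS tD, lkS tC, lkS tD, lkS tE] (30 * 1872) 1872 = true := by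
  decide +kernel

theorem cw25_6 : checkWordF [lkS tB, lkS tC, lkS tD, lkS tC, lkS tD, lkS tB, lkS tC, lkS tD, lkS tC, lkS tD, lkS tB, lkS tC, lkS tD, lkS tC, lkS tD, lkS tB, lkS tC, lkS tD, lkS tC, lkS tD, lkS tB, lkS tC, lkS tD, lkS tC, lkS tD, lkS tE, lkS tB, lkS tC, lkS tD, lkS tC, lkS tD, lkS tB, lkS tC, lkS tD, lkS tC, lkS tD, lkS tB, lkS tC, lkS tD, lkS tC, lkS tD, lkS tB, lkS tC, lkS tD, lkS tC, lkS tD, lkS tB, lkS tC, lkS tD, lkS tC, lkS tD, lkS tE, lkS tB, lkS tC, lkS tD, lkS tC, lkS tD, lkS tB, lkS tC, lkS tD, lkS tC, lkS tD, lkS tB, lkS tC, lkS tD, lkS tC, lkS tD, lkS tB, lkS tC, lkS tD, lkS tC, lkS tD, lkS tB, lkS tC, lkS tD, lkS tC, lkS tD, lkS tE] (6 * 1872) 1872 = true := by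
  decide +kernel

theorem cw26_3 : checkWordF [lkS tA, lkS tA] (3 * 8190) 8190 = true := by
  decide +kernel

theorem cw27_3 : checkWordF [lkS tB, lkS tB] (3 * 8190) 8190 = true := by
  decide +kernel

theorem cw28_3 : checkWordF [lkS tC, lkS tC] (3 * 8190) 8190 = true := by
  decide +kernel

theorem cw29_0 : checkWordF [lkS tD, lkS tD, lkS tD, lkS tD] (0 * 8190) 8190 = true := by
  decide +kernel

theorem cw30_0 : checkWordF [lkS tE, lkS tE, lkS tD, lkS tD] (0 * 8190) 8190 = true := by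
  decide +kernel

theorem cw31_3 : checkWordF [lkS tF, lkS tF] (3 * 8190) 8190 = true := by
  decide +kernel

theorem cw32_3 : checkWordF [lkS tG, lkS tG] (3 * 8190) 8190 = true := by
  decide +kernel

theorem cw34_1 : checkWordF [lkS tD, lkS tD, lkS tA, lkS tD, lkS tD, lkS tA] (1 * 8190) 8190 = true := by
  decide +kernel

theorem cw35_1 : checkWordF [lkS tD, lkS tD, lkS tB, lkS tD, lkS tD, lkS tB] (1 * 8190) 8190 = true := by
  decide +kernel

theorem cw36_1 : checkWordF [lkS tD, lkS tD, lkS tC, lkS tD, lkS tD, lkS tC] (1 * 8190) 8190 = true := by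
  decide +kernel

theorem cw37_1 : checkWordF [lkS tD, lkS tD, lkS tF, lkS tD, lkS tD, lkS tF] (1 * 8190) 8190 = true := by
  decide +kernel

theorem cw38_1 : checkWordF [lkS tD, lkS tD, lkS tG, lkS tD, lkS tD, lkS tG] (1 * 8190) 8190 = true := by
  decide +kernel

theorem cw39_6 : checkWordF [lkS tD, lkS tD, lkS tE, lkS tD, lkS tD, lkS tE, lkS tE, lkS tE] (6 * 8190) 8190 = true := by
  decide +kernel

theorem cw3_1 : checkWordF [lkS tA, lkS tE, lkS tA, lkS tE, lkS tD, lkS tD] (1 * 8190) 8190 = true := by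
  decide +kernel

theorem cw4_0 : checkWordF [lkS tA, lkS tF, lkS tA, lkS tF] (0 * 8190) 8190 = true := by
  decide +kernel

theorem cw5_0 : checkWordF [lkS tA, lkS tG, lkS tA, lkS tG] (0 * 8190) 8190 = true := by
  decide +kernel

theorem cw6_1 : checkWordF [lkS tB, lkS tC, lkS tB, lkS tC, lkS tB, lkS tC] (1 * 8190) 8190 = true := by
  decide +kernel

theorem cw7_1 : checkWordF [lkS tB, lkS tD, lkS tB, lkS tD, lkS tD, lkS tD] (1 * 8190) 8190 = true := by
  decide +kernel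

theorem cw8_1 : checkWordF [lkS tB, lkS tE, lkS tB, lkS tE, lkS tD, lkS tD] (1 * 8190) 8190 = true := by
  decide +kernel

theorem cw9_1 : checkWordF [lkS tB, lkS tF, lkS tB, lkS tF, lkS tB, lkS tF] (1 * 8190) 8190 = true := by
  decide +kernel

theorem pr0_0 : checkWordF [lkS tA, lkS tA] (0 * 8190) 8190 = true := by
  decide +kernel

theorem pr0_3 : checkWordF [lkS tA, lkS tA] (3 * 8190) 8190 = true := by
  decide +kernel

theorem pr1_3 : checkWordF [lkS tB, lkS tB] (3 * 8190) 8190 = true := by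
  decide +kernel

theorem pr2_3 : checkWordF [lkS tC, lkS tC] (3 * 8190) 8190 = true := by
  decide +kernel

theorem pr3_3 : checkWordF [lkS tD, lkS tDi] (3 * 8190) 8190 = true := by
  decide +kernel

theorem pr4_3 : checkWordF [lkS tE, lkS tEi] (3 * 8190) 8190 = true := by
  decide +kernel

theorem pr5_3 : checkWordF [lkS tF, lkS tF] (3 * 8190) 8190 = true := by
  decide +kernel

theorem pr6_3 : checkWordF [lkS tG, lkS tG] (3 * 8190) 8190 = true := by
  decide +kernel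

theorem pri3_3 : checkWordF [lkS tDi, lkS tD] (3 * 8190) 8190 = true := by
  decide +kernel

theorem pri4_3 : checkWordF [lkS tEi, lkS tE] (3 * 8190) 8190 = true := by
  decide +kernel

theorem rg0_3 : checkRangeF (lkS tA) 65520 (3 * 8190) 8190 = true := by
  decide +kernel

theorem rg1_1 : checkRangeF (lkS tB) 65520 (1 * 8190) 8190 = true := by
  decide +kernel

theorem rg2_1 : checkRangeF (lkS tC) 65520 (1 * 8190) 8190 = true := by
  decide +kernel

theorem rg3_1 : checkRangeF (lkS tD) 65520 (1 * 8190) 8190 = true := by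
  decide +kernel

theorem rg4_1 : checkRangeF (lkS tE) 65520 (1 * 8190) 8190 = true := by
  decide +kernel

theorem rg5_1 : checkRangeF (lkS tF) 65520 (1 * 8190) 8190 = true := by
  decide +kernel

theorem rg6_1 : checkRangeF (lkS tG) 65520 (1 * 8190) 8190 = true := by
  decide +kernel

theorem rgi3_1 : checkRangeF (lkS tDi) 65520 (1 * 8190) 8190 = true := by
  decide +kernel

theorem rgi4_1 : checkRangeF (lkS tEi) 65520 (1 * 8190) 8190 = true := by
  decide +kernel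

end Cfsg.Agent.Lib.H25.SuzM2
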