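import Cfsg.Agent.Lib.H25.SuzM2.Tabs

set_option Elab.async false
set_option autoImplicit false
set_option maxRecDepth 1000000

/-! # S2048, piece M2: kernel computations on the monomial model of `2.Suz`, part 7 (helper25, generated) -/

namespace Cfsg.Agent.Lib.H25.SuzM2

open Cfsg.Agent.Lib.H25.PPT

theorem cw0_0 : checkWordF [lkS tA, lkS tB, lkS tA, lkS tB, lkS tA, lkS tB, lkS tA, lkS tB, lkS tA, lkS tB] (0 * 8190) 8190 = true := by
  decide +kernel

theorem cw0_3 : checkWordF [lkS tA, lkS tB, lkS tA, lkS tB, lkS tA, lkS tB, lkS tA, lkS tB, lkS tA, lkS tB] (3 * 8190) 8190 = true := by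
  decide +kernel

theorem cw10_3 : checkWordF [lkS tB, lkS tG, lkS tB, lkS tG, lkS tB, lkS tG] (3 * 8190) 8190 = true := by
  decide +kernel

theorem cw12_3 : checkWordF [lkS tC, lkS tE, lkS tC, lkS tE, lkS tD, lkS tD] (3 * 8190) 8190 = true := by
  decide +kernel

theorem cw13_3 : checkWordF [lkS tC, lkS tF, lkS tC, lkS tF] (3 * 8190) 8190 = true := by
  decide +kernel

theorem cw14_3 : checkWordF [lkS tC, lkS tG, lkS tC, lkS tG] (3 * 8190) 8190 = true := by
  decide +kernel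

theorem cw15_3 : checkWordF [lkS tD, lkS tE, lkS tD, lkS tE, lkS tD, lkS tE, lkS tD, lkS tD] (3 * 8190) 8190 = true := by
  decide +kernel

theorem cw16_3 : checkWordF [lkS tD, lkS tF, lkS tD, lkS tF, lkS tD, lkS tD] (3 * 8190) 8190 = true := by
  decide +kernel

theorem cw17_3 : checkWordF [lkS tD, lkS tG, lkS tD, lkS tG, lkS tD, lkS tD] (3 * 8190) 8190 = true := by
  decide +kernel

theorem cw18_3 : checkWordF [lkS tE, lkS tF, lkS tE, lkS tF, lkS tD, lkS tD] (3 * 8190) 8190 = true := by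
  decide +kernel

theorem cw19_3 : checkWordF [lkS tE, lkS tG, lkS tE, lkS tG, lkS tD, lkS tD] (3 * 8190) 8190 = true := by
  decide +kernel

theorem cw1_3 : checkWordF [lkS tA, lkS tC, lkS tA, lkS tC] (3 * 8190) 8190 = true := by
  decide +kernel

theorem cw20_3 : checkWordF [lkS tF, lkS tG, lkS tF, lkS tG, lkS tF, lkS tG, lkS tF, lkS tG] (3 * 8190) 8190 = true := by
  decide +kernel

theorem cw21_3 : checkWordF [lkS tA, lkS tD, lkS tC, lkS tD, lkS tC, lkS tD, lkS tC, lkS tD, lkS tC] (3 * 8190) 8190 = true := by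
  decide +kernel

theorem cw22_3 : checkWordF [lkS tA, lkS tG, lkS tF, lkS tG, lkS tF] (3 * 8190) 8190 = true := by
  decide +kernel

theorem cw23_4 : checkWordF [lkS tA, lkS tB, lkS tC, lkS tF, lkS tA, lkS tB, lkS tC, lkS tF, lkS tA, lkS tB, lkS tC, lkS tF, lkS tA, lkS tB, lkS tC, lkS tF, lkS tA, lkS tB, lkS tC, lkS tF, lkS tD, lkS tD] (4 * 6552) 6552 = true := by
  decide +kernel

theorem cw23_9 : checkWordF [lkS tA, lkS tB, lkS tC, lkS tF, lkS tA, lkS tB, lkS tC, lkS tF, lkS tA, lkS tB, lkS tC, lkS tF, lkS tA, lkS tB, lkS tC, lkS tF, lkS tA, lkS tB, lkS tC, lkS tF, lkS tD, lkS tD] (9 * 6552) 6552 = true := by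
  decide +kernel

theorem cw24_2 : checkWordF [lkS tB, lkS tF, lkS tG, lkS tB, lkS tF, lkS tG, lkS tB, lkS tF, lkS tG, lkS tB, lkS tF, lkS tG, lkS tB, lkS tF, lkS tG] (2 * 8190) 8190 = true := by
  decide +kernel

theorem cw25_15 : checkWordF [lkS tB, lkS tC, lkS tD, lkS tC, lkS tD, lkS tB, lkS tC, lkS tD, lkS tC, lkS tD, lkS tB, lkS tC, lkS tD, lkS tC, lkS tD, lkS tB, lkS tC, lkS tD, lkS tC, lkS tD, lkS tB, lkS tC, lkS tD, lkS tC, lkS tD, lkS tE, lkS tB, lkS tC, lkS tD, lkS tC, lkS tD, lkS tB, lkS tC, lkS tD, lkS tC, lkS tD, lkS tB, lkS tC, lkS tD, lkS tC, lkS tD, lkS tB, lkS tC, lkS tD, lkS tC, lkS tD, lkS tB, lkS tC, lkS tD, lkS tC, lkS tD, lkS tE, lkS tB, lkS tC, lkS tD, lkS tC, lkS tD, lkS tB, lkS tC, lkS tD, lkS tC, lkS tD, lkS tB, lkS tC, lkS tD, lkS tC, lkS tD, lkS tB, lkS tC, lkS tD, lkS tC, lkS tD, lkS tB, lkS tC, lkS tD, lkS tC, lkS tD, lkS tE] (15 * 1872) 1872 = true := by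
  decide +kernel

theorem cw25_23 : checkWordF [lkS tB, lkS tC, lkS tD, lkS tC, lkS tD, lkS tB, lkS tC, lkS tD, lkS tC, lkS tD, lkS tB, lkS tC, lkS tD, lkS tC, lkS tD, lkS tB, lkS tC, lkS tD, lkS tC, lkS tD, lkS tB, lkS tC, lkS tD, lkS tC, lkS tD, lkS tE, lkS tB, lkS tC, lkS tD, lkS tC, lkS tD, lkS tB, lkS tC, lkS tD, lkS tC, lkS tD, lkS tB, lkS tC, lkS tD, lkS tC, lkS tD, lkS tB, lkS tC, lkS tD, lkS tC, lkS tD, lkS tB, lkS tC, lkS tD, lkS tC, lkS tD, lkS tE, lkS tB, lkS tC, lkS tD, lkS tC, lkS tD, lkS tB, lkS tC, lkS tD, lkS tC, lkS tD, lkS tB, lkS tC, lkS tD, lkS tC, lkS tD, lkS tB, lkS tC, lkS tD, lkS tC, lkS tD, lkS tB, lkS tC, lkS tD, lkS tC, lkS tD, lkS tE] (23 * 1872) 1872 = true := by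
  decide +kernel

theorem cw25_31 : checkWordF [lkS tB, lkS tC, lkS tD, lkS tC, lkS tD, lkS tB, lkS tC, lkS tD, lkS tC, lkS tD, lkS tB, lkS tC, lkS tD, lkS tC, lkS tD, lkS tB, lkS tC, lkS tD, lkS tC, lkS tD, lkS tB, lkS tC, lkS tD, lkS tC, lkS tD, lkS tE, lkS tB, lkS tC, lkS tD, lkS tC, lkS tD, lkS tB, lkS tC, lkS tD, lkS tC, lkS tD, lkS tB, lkS tC, lkS tD, lkS tC, lkS tD, lkS tB, lkS tC, lkS tD, lkS tC, lkS tD, lkS tB, lkS tC, lkS tD, lkS tC, lkS tD, lkS tE, lkS tB, lkS tC, lkS tD, lkS tC, lkS tD, lkS tB, lkS tC, lkS tD, lkS tC, lkS tD, lkS tB, lkS tC, lkS tD, lkS tC, lkS tD, lkS tB, lkS tC, lkS tD, lkS tC, lkS tD, lkS tB, lkS tC, lkS tD, lkS tC, lkS tD, lkS tE] (31 * 1872) 1872 = true := by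
  decide +kernel

theorem cw25_7 : checkWordF [lkS tB, lkS tC, lkS tD, lkS tC, lkS tD, lkS tB, lkS tC, lkS tD, lkS tC, lkS tD, lkS tB, lkS tC, lkS tD, lkS tC, lkS tD, lkS tB, lkS tC, lkS tD, lkS tC, lkS tD, lkS tB, lkS tC, lkS tD, lkS tC, lkS tD, lkS tE, lkS tB, lkS tC, lkS tD, lkS tC, lkS tD, lkS tB, lkS tC, lkS tD, lkS tC, lkS tD, lkS tB, lkS tC, lkS tD, lkS tC, lkS tD, lkS tB, lkS tC, lkS tD, lkS tC, lkS tD, lkS tB, lkS tC, lkS tD, lkS tC, lkS tD, lkS tE, lkS tB, lkS tC, lkS tD, lkS tC, lkS tD, lkS tB, lkS tC, lkS tD, lkS tC, lkS tD, lkS tB, lkS tC, lkS tD, lkS tC, lkS tD, lkS tB, lkS tC, lkS tD, lkS tC, lkS tD, lkS tB, lkS tC, lkS tD, lkS tC, lkS tD, lkS tE] (7 * 1872) 1872 = true := by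
  decide +kernel

theorem cw26_6 : checkWordF [lkS tA, lkS tA] (6 * 8190) 8190 = true := by
  decide +kernel

theorem cw27_6 : checkWordF [lkS tB, lkS tB] (6 * 8190) 8190 = true := by
  decide +kernel

theorem cw28_6 : checkWordF [lkS tC, lkS tC] (6 * 8190) 8190 = true := by
  decide +kernel

theorem cw29_3 : checkWordF [lkS tD, lkS tD, lkS tD, lkS tD] (3 * 8190) 8190 = true := by
  decide +kernel

theorem cw2_3 : checkWordF [lkS tA, lkS tD, lkS tA, lkS tD, lkS tD, lkS tD] (3 * 8190) 8190 = true := by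
  decide +kernel

theorem cw30_3 : checkWordF [lkS tE, lkS tE, lkS tD, lkS tD] (3 * 8190) 8190 = true := by
  decide +kernel

theorem cw31_6 : checkWordF [lkS tF, lkS tF] (6 * 8190) 8190 = true := by
  decide +kernel

theorem cw32_6 : checkWordF [lkS tG, lkS tG] (6 * 8190) 8190 = true := by
  decide +kernel

theorem cw34_3 : checkWordF [lkS tD, lkS tD, lkS tA, lkS tD, lkS tD, lkS tA] (3 * 8190) 8190 = true := by
  decide +kernel

theorem cw35_3 : checkWordF [lkS tD, lkS tD, lkS tB, lkS tD, lkS tD, lkS tB] (3 * 8190) 8190 = true := by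
  decide +kernel

theorem cw36_3 : checkWordF [lkS tD, lkS tD, lkS tC, lkS tD, lkS tD, lkS tC] (3 * 8190) 8190 = true := by
  decide +kernel

theorem cw37_3 : checkWordF [lkS tD, lkS tD, lkS tF, lkS tD, lkS tD, lkS tF] (3 * 8190) 8190 = true := by
  decide +kernel

theorem cw38_3 : checkWordF [lkS tD, lkS tD, lkS tG, lkS tD, lkS tD, lkS tG] (3 * 8190) 8190 = true := by
  decide +kernel

theorem cw39_3 : checkWordF [lkS tD, lkS tD, lkS tE, lkS tD, lkS tD, lkS tE, lkS tE, lkS tE] (3 * 8190) 8190 = true := by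
  decide +kernel

theorem cw3_3 : checkWordF [lkS tA, lkS tE, lkS tA, lkS tE, lkS tD, lkS tD] (3 * 8190) 8190 = true := by
  decide +kernel

theorem cw4_3 : checkWordF [lkS tA, lkS tF, lkS tA, lkS tF] (3 * 8190) 8190 = true := by
  decide +kernel

theorem cw5_3 : checkWordF [lkS tA, lkS tG, lkS tA, lkS tG] (3 * 8190) 8190 = true := by
  decide +kernel

theorem cw6_3 : checkWordF [lkS tB, lkS tC, lkS tB, lkS tC, lkS tB, lkS tC] (3 * 8190) 8190 = true := by
  decide +kernel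

theorem cw7_3 : checkWordF [lkS tB, lkS tD, lkS tB, lkS tD, lkS tD, lkS tD] (3 * 8190) 8190 = true := by
  decide +kernel

theorem cw8_3 : checkWordF [lkS tB, lkS tE, lkS tB, lkS tE, lkS tD, lkS tD] (3 * 8190) 8190 = true := by
  decide +kernel

theorem cw9_3 : checkWordF [lkS tB, lkS tF, lkS tB, lkS tF, lkS tB, lkS tF] (3 * 8190) 8190 = true := by
  decide +kernel

theorem pr0_6 : checkWordF [lkS tA, lkS tA] (6 * 8190) 8190 = true := by
  decide +kernel

theorem pr1_6 : checkWordF [lkS tB, lkS tB] (6 * 8190) 8190 = true := by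
  decide +kernel

theorem pr2_6 : checkWordF [lkS tC, lkS tC] (6 * 8190) 8190 = true := by
  decide +kernel

theorem pr3_6 : checkWordF [lkS tD, lkS tDi] (6 * 8190) 8190 = true := by
  decide +kernel

theorem pr4_6 : checkWordF [lkS tE, lkS tEi] (6 * 8190) 8190 = true := by
  decide +kernel

theorem pr5_6 : checkWordF [lkS tF, lkS tF] (6 * 8190) 8190 = true := by
  decide +kernel

theorem pr6_6 : checkWordF [lkS tG, lkS tG] (6 * 8190) 8190 = true := by
  decide +kernel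

theorem pri3_6 : checkWordF [lkS tDi, lkS tD] (6 * 8190) 8190 = true := by
  decide +kernel

theorem pri4_6 : checkWordF [lkS tEi, lkS tE] (6 * 8190) 8190 = true := by
  decide +kernel

theorem rg1_2 : checkRangeF (lkS tB) 65520 (2 * 8190) 8190 = true := by
  decide +kernel

theorem rg2_2 : checkRangeF (lkS tC) 65520 (2 * 8190) 8190 = true := by
  decide +kernel

theorem rg3_2 : checkRangeF (lkS tD) 65520 (2 * 8190) 8190 = true := by
  decide +kernel

theorem rg4_2 : checkRangeF (lkS tE) 65520 (2 * 8190) 8190 = true := by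
  decide +kernel

theorem rg5_2 : checkRangeF (lkS tF) 65520 (2 * 8190) 8190 = true := by
  decide +kernel

theorem rg6_2 : checkRangeF (lkS tG) 65520 (2 * 8190) 8190 = true := by
  decide +kernel

theorem rgi3_2 : checkRangeF (lkS tDi) 65520 (2 * 8190) 8190 = true := by
  decide +kernel

theorem rgi4_2 : checkRangeF (lkS tEi) 65520 (2 * 8190) 8190 = true := by
  decide +kernel

end Cfsg.Agent.Lib.H25.SuzM2
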