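import Cfsg.Agent.Lib.H14.SuzM.Base

set_option autoImplicit false
set_option maxRecDepth 100000

/-!
# S2048: the presented double cover of `Suz` (definitions only; helper25, after helper14's `Cov3.lean`)

In `2.Suz` the lifts of `a b c f g` (class `2A`) are involutions, the lifts of `d e` (class `2B`) have order `4`
and `z = d² = e²` is the central involution.  With the lifts normalised as in helper14's presentation of
`2.G₂(4)` (and `b g b = g b g`), every relator word `w` of `Suz` (`H17.SuzGlue.relW`, positive letters only)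
has the value `1` or `z`; the signs were computed on the monomial model on `65520 = 2 * 32760` points
(`tools/suzm_h25`).  The relator words of the cover: `w` or `w ++ [3, 3]` for `w ∈ relW`, and `z` commutes
with the letters.
-/

namespace Cfsg.Agent.Lib.H25.SuzM2

open Cfsg.Agent.Lib.H14.SuzM
open Cfsg.Agent.Lib.H17.SuzGlue (gen idx rels relW)

/-- the word `d²` -/
def zw2 : List ℕ := [3, 3]

/-- the relator words of the double cover: for the relator words `w` of `Suz` the word `w` or `w ++ [3, 3]`,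
then the commutators of `d²` with `a b c f g` (involutions) and with `e` (inverse `e³`) -/
def covW2 : List (List ℕ) := [
  [0, 1, 0, 1, 0, 1, 0, 1, 0, 1],
  [0, 2, 0, 2],
  [0, 3, 0, 3, 3, 3],
  [0, 4, 0, 4, 3, 3],
  [0, 5, 0, 5],
  [0, 6, 0, 6],
  [1, 2, 1, 2, 1, 2],
  [1, 3, 1, 3, 3, 3],
  [1, 4, 1, 4, 3, 3],
  [1, 5, 1, 5, 1, 5],
  [1, 6, 1, 6, 1, 6],
  [2, 3, 2, 3, 2, 3, 2, 3, 2, 3, 2, 3, 2, 3, 2, 3],
  [2, 4, 2, 4, 3, 3],
  [2, 5, 2, 5],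
  [2, 6, 2, 6],
  [3, 4, 3, 4, 3, 4, 3, 3],
  [3, 5, 3, 5, 3, 3],
  [3, 6, 3, 6, 3, 3],
  [4, 5, 4, 5, 3, 3],
  [4, 6, 4, 6, 3, 3],
  [5, 6, 5, 6, 5, 6, 5, 6],
  [0, 3, 2, 3, 2, 3, 2, 3, 2],
  [0, 6, 5, 6, 5],
  [0, 1, 2, 5, 0, 1, 2, 5, 0, 1, 2, 5, 0, 1, 2, 5, 0, 1, 2, 5, 3, 3],
  [1, 5, 6, 1, 5, 6, 1, 5, 6, 1, 5, 6, 1, 5, 6],
  [1, 2, 3, 2, 3, 1, 2, 3, 2, 3, 1, 2, 3, 2, 3, 1, 2, 3, 2, 3, 1, 2, 3, 2, 3, 4, 1, 2, 3, 2, 3, 1, 2, 3, 2, 3, 1, 2, 3, 2, 3, 1, 2, 3, 2, 3, 1, 2, 3, 2, 3, 4, 1, 2, 3, 2, 3, 1, 2, 3, 2, 3, 1, 2, 3, 2, 3, 1, 2, 3, 2, 3, 1, 2, 3, 2, 3, 4],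
  [0, 0],
  [1, 1],
  [2, 2],
  [3, 3, 3, 3],
  [4, 4, 3, 3],
  [5, 5],
  [6, 6],
  [],
  [3, 3, 0, 3, 3, 0],
  [3, 3, 1, 3, 3, 1],
  [3, 3, 2, 3, 3, 2],
  [3, 3, 5, 3, 3, 5],
  [3, 3, 6, 3, 3, 6],
  [3, 3, 4, 3, 3, 4, 4, 4]]

/-- every relator word of `Suz` has the value `1` or `z⁻¹` in the double cover -/
theorem relW_cov : ∀ w ∈ relW, w ∈ covW2 ∨ w ++ zw2 ∈ covW2 := by
  decide

/-- the relators of the double cover -/
def covRels2 : Set (FreeGroup Cfsg.Spor.Suz.Gen) :=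
  {r | ∃ w ∈ covW2, r = FreeGroup.mk (w.map fun x => (gen x, true))}

/-- the presented double cover -/
abbrev PC2 : Type := PresentedGroup covRels2

/-- the letters of the double cover -/
noncomputable def pc2 (x : ℕ) : PC2 := PresentedGroup.of (gen x)

/-- the central element `z = d²` of the double cover -/
noncomputable def z2 : PC2 := wv pc2 zw2

end Cfsg.Agent.Lib.H25.SuzM2
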