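import Cfsg.Agent.Lib.H25.SuzM2.Chk0
import Cfsg.Agent.Lib.H25.SuzM2.Chk1
import Cfsg.Agent.Lib.H25.SuzM2.Chk2
import Cfsg.Agent.Lib.H25.SuzM2.Chk3
import Cfsg.Agent.Lib.H25.SuzM2.Chk4
import Cfsg.Agent.Lib.H25.SuzM2.Chk5
import Cfsg.Agent.Lib.H25.SuzM2.Chk6
import Cfsg.Agent.Lib.H25.SuzM2.Chk7

set_option autoImplicit false
set_option maxRecDepth 100000

/-! # S2048, piece M2: the tables are good and the 40 relator words of the double cover fix all `65520` points (helper25, generated) -/

namespace Cfsg.Agent.Lib.H25.SuzM2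

open Cfsg.Agent.Lib.H25.PPT

theorem rg0 : ∀ i < 65520, lkS tA i < 65520 :=
  range_of_uniform (lkS tA) 65520 65520 8190 8 (by norm_num) (by norm_num) (by
    intro k hk
    interval_cases k
    · exact rg0_0
    · exact rg0_1
    · exact rg0_2
    · exact rg0_3
    · exact rg0_4
    · exact rg0_5
    · exact rg0_6
    · exact rg0_7)

theorem rg1 : ∀ i < 65520, lkS tB i < 65520 :=
  range_of_uniform (lkS tB) 65520 65520 8190 8 (by norm_num) (by norm_num) (by
    intro k hk
    interval_cases k
    · exact rg1_0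
    · exact rg1_1
    · exact rg1_2
    · exact rg1_3
    · exact rg1_4
    · exact rg1_5
    · exact rg1_6
    · exact rg1_7)

theorem rg2 : ∀ i < 65520, lkS tC i < 65520 :=
  range_of_uniform (lkS tC) 65520 65520 8190 8 (by norm_num) (by norm_num) (by
    intro k hk
    interval_cases k
    · exact rg2_0
    · exact rg2_1
    · exact rg2_2
    · exact rg2_3
    · exact rg2_4
    · exact rg2_5
    · exact rg2_6
    · exact rg2_7)

theorem rg3 : ∀ i < 65520, lkS tD i < 65520 :=
  range_of_uniform (lkS tD) 65520 65520 8190 8 (by norm_num) (by norm_num) (by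
    intro k hk
    interval_cases k
    · exact rg3_0
    · exact rg3_1
    · exact rg3_2
    · exact rg3_3
    · exact rg3_4
    · exact rg3_5
    · exact rg3_6
    · exact rg3_7)

theorem rgi3 : ∀ i < 65520, lkS tDi i < 65520 :=
  range_of_uniform (lkS tDi) 65520 65520 8190 8 (by norm_num) (by norm_num) (by
    intro k hk
    interval_cases k
    · exact rgi3_0
    · exact rgi3_1
    · exact rgi3_2
    · exact rgi3_3
    · exact rgi3_4
    · exact rgi3_5
    · exact rgi3_6
    · exact rgi3_7)

theorem rg4 : ∀ i < 65520, lkS tE i < 65520 :=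
  range_of_uniform (lkS tE) 65520 65520 8190 8 (by norm_num) (by norm_num) (by
    intro k hk
    interval_cases k
    · exact rg4_0
    · exact rg4_1
    · exact rg4_2
    · exact rg4_3
    · exact rg4_4
    · exact rg4_5
    · exact rg4_6
    · exact rg4_7)

theorem rgi4 : ∀ i < 65520, lkS tEi i < 65520 :=
  range_of_uniform (lkS tEi) 65520 65520 8190 8 (by norm_num) (by norm_num) (by
    intro k hk
    interval_cases k
    · exact rgi4_0
    · exact rgi4_1
    · exact rgi4_2
    · exact rgi4_3
    · exact rgi4_4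
    · exact rgi4_5
    · exact rgi4_6
    · exact rgi4_7)

theorem rg5 : ∀ i < 65520, lkS tF i < 65520 :=
  range_of_uniform (lkS tF) 65520 65520 8190 8 (by norm_num) (by norm_num) (by
    intro k hk
    interval_cases k
    · exact rg5_0
    · exact rg5_1
    · exact rg5_2
    · exact rg5_3
    · exact rg5_4
    · exact rg5_5
    · exact rg5_6
    · exact rg5_7)

theorem rg6 : ∀ i < 65520, lkS tG i < 65520 :=
  range_of_uniform (lkS tG) 65520 65520 8190 8 (by norm_num) (by norm_num) (by
    intro k hk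
    interval_cases k
    · exact rg6_0
    · exact rg6_1
    · exact rg6_2
    · exact rg6_3
    · exact rg6_4
    · exact rg6_5
    · exact rg6_6
    · exact rg6_7)

theorem pr0 : ∀ i < 65520, applyF [lkS tA, lkS tA] i = i :=
  fix_of_uniform [lkS tA, lkS tA] 65520 8190 8 (by norm_num) (by norm_num) (by
    intro k hk
    interval_cases k
    · exact pr0_0
    · exact pr0_1
    · exact pr0_2
    · exact pr0_3
    · exact pr0_4
    · exact pr0_5
    · exact pr0_6
    · exact pr0_7)

theorem pr1 : ∀ i < 65520, applyF [lkS tB, lkS tB] i = i :=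
  fix_of_uniform [lkS tB, lkS tB] 65520 8190 8 (by norm_num) (by norm_num) (by
    intro k hk
    interval_cases k
    · exact pr1_0
    · exact pr1_1
    · exact pr1_2
    · exact pr1_3
    · exact pr1_4
    · exact pr1_5
    · exact pr1_6
    · exact pr1_7)

theorem pr2 : ∀ i < 65520, applyF [lkS tC, lkS tC] i = i :=
  fix_of_uniform [lkS tC, lkS tC] 65520 8190 8 (by norm_num) (by norm_num) (by
    intro k hk
    interval_cases k
    · exact pr2_0
    · exact pr2_1
    · exact pr2_2
    · exact pr2_3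
    · exact pr2_4
    · exact pr2_5
    · exact pr2_6
    · exact pr2_7)

theorem pr3 : ∀ i < 65520, applyF [lkS tD, lkS tDi] i = i :=
  fix_of_uniform [lkS tD, lkS tDi] 65520 8190 8 (by norm_num) (by norm_num) (by
    intro k hk
    interval_cases k
    · exact pr3_0
    · exact pr3_1
    · exact pr3_2
    · exact pr3_3
    · exact pr3_4
    · exact pr3_5
    · exact pr3_6
    · exact pr3_7)

theorem pri3 : ∀ i < 65520, applyF [lkS tDi, lkS tD] i = i :=
  fix_of_uniform [lkS tDi, lkS tD] 65520 8190 8 (by norm_num) (by norm_num) (by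
    intro k hk
    interval_cases k
    · exact pri3_0
    · exact pri3_1
    · exact pri3_2
    · exact pri3_3
    · exact pri3_4
    · exact pri3_5
    · exact pri3_6
    · exact pri3_7)

theorem pr4 : ∀ i < 65520, applyF [lkS tE, lkS tEi] i = i :=
  fix_of_uniform [lkS tE, lkS tEi] 65520 8190 8 (by norm_num) (by norm_num) (by
    intro k hk
    interval_cases k
    · exact pr4_0
    · exact pr4_1
    · exact pr4_2
    · exact pr4_3
    · exact pr4_4
    · exact pr4_5
    · exact pr4_6
    · exact pr4_7)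

theorem pri4 : ∀ i < 65520, applyF [lkS tEi, lkS tE] i = i :=
  fix_of_uniform [lkS tEi, lkS tE] 65520 8190 8 (by norm_num) (by norm_num) (by
    intro k hk
    interval_cases k
    · exact pri4_0
    · exact pri4_1
    · exact pri4_2
    · exact pri4_3
    · exact pri4_4
    · exact pri4_5
    · exact pri4_6
    · exact pri4_7)

theorem pr5 : ∀ i < 65520, applyF [lkS tF, lkS tF] i = i :=
  fix_of_uniform [lkS tF, lkS tF] 65520 8190 8 (by norm_num) (by norm_num) (by
    intro k hk
    interval_cases k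
    · exact pr5_0
    · exact pr5_1
    · exact pr5_2
    · exact pr5_3
    · exact pr5_4
    · exact pr5_5
    · exact pr5_6
    · exact pr5_7)

theorem pr6 : ∀ i < 65520, applyF [lkS tG, lkS tG] i = i :=
  fix_of_uniform [lkS tG, lkS tG] 65520 8190 8 (by norm_num) (by norm_num) (by
    intro k hk
    interval_cases k
    · exact pr6_0
    · exact pr6_1
    · exact pr6_2
    · exact pr6_3
    · exact pr6_4
    · exact pr6_5
    · exact pr6_6
    · exact pr6_7)

theorem good0 : GoodF 65520 (lkS tA) (lkS tA) :=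
  goodF_of_fix _ _ _ rg0 rg0 pr0 pr0

theorem good1 : GoodF 65520 (lkS tB) (lkS tB) :=
  goodF_of_fix _ _ _ rg1 rg1 pr1 pr1

theorem good2 : GoodF 65520 (lkS tC) (lkS tC) :=
  goodF_of_fix _ _ _ rg2 rg2 pr2 pr2

theorem good3 : GoodF 65520 (lkS tD) (lkS tDi) :=
  goodF_of_fix _ _ _ rg3 rgi3 pr3 pri3

theorem good4 : GoodF 65520 (lkS tE) (lkS tEi) :=
  goodF_of_fix _ _ _ rg4 rgi4 pr4 pri4

theorem good5 : GoodF 65520 (lkS tF) (lkS tF) :=
  goodF_of_fix _ _ _ rg5 rg5 pr5 pr5

theorem good6 : GoodF 65520 (lkS tG) (lkS tG) :=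
  goodF_of_fix _ _ _ rg6 rg6 pr6 pr6

theorem fix0 : ∀ i < 65520, applyF [lkS tA, lkS tB, lkS tA, lkS tB, lkS tA, lkS tB, lkS tA, lkS tB, lkS tA, lkS tB] i = i :=
  fix_of_uniform [lkS tA, lkS tB, lkS tA, lkS tB, lkS tA, lkS tB, lkS tA, lkS tB, lkS tA, lkS tB] 65520 8190 8 (by norm_num) (by norm_num) (by
    intro k hk
    interval_cases k
    · exact cw0_0
    · exact cw0_1
    · exact cw0_2
    · exact cw0_3
    · exact cw0_4
    · exact cw0_5
    · exact cw0_6
    · exact cw0_7)

theorem fix1 : ∀ i < 65520, applyF [lkS tA, lkS tC, lkS tA, lkS tC] i = i :=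
  fix_of_uniform [lkS tA, lkS tC, lkS tA, lkS tC] 65520 8190 8 (by norm_num) (by norm_num) (by
    intro k hk
    interval_cases k
    · exact cw1_0
    · exact cw1_1
    · exact cw1_2
    · exact cw1_3
    · exact cw1_4
    · exact cw1_5
    · exact cw1_6
    · exact cw1_7)

theorem fix2 : ∀ i < 65520, applyF [lkS tA, lkS tD, lkS tA, lkS tD, lkS tD, lkS tD] i = i :=
  fix_of_uniform [lkS tA, lkS tD, lkS tA, lkS tD, lkS tD, lkS tD] 65520 8190 8 (by norm_num) (by norm_num) (by
    intro k hk
    interval_cases k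
    · exact cw2_0
    · exact cw2_1
    · exact cw2_2
    · exact cw2_3
    · exact cw2_4
    · exact cw2_5
    · exact cw2_6
    · exact cw2_7)

theorem fix3 : ∀ i < 65520, applyF [lkS tA, lkS tE, lkS tA, lkS tE, lkS tD, lkS tD] i = i :=
  fix_of_uniform [lkS tA, lkS tE, lkS tA, lkS tE, lkS tD, lkS tD] 65520 8190 8 (by norm_num) (by norm_num) (by
    intro k hk
    interval_cases k
    · exact cw3_0
    · exact cw3_1
    · exact cw3_2
    · exact cw3_3
    · exact cw3_4
    · exact cw3_5
    · exact cw3_6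
    · exact cw3_7)

theorem fix4 : ∀ i < 65520, applyF [lkS tA, lkS tF, lkS tA, lkS tF] i = i :=
  fix_of_uniform [lkS tA, lkS tF, lkS tA, lkS tF] 65520 8190 8 (by norm_num) (by norm_num) (by
    intro k hk
    interval_cases k
    · exact cw4_0
    · exact cw4_1
    · exact cw4_2
    · exact cw4_3
    · exact cw4_4
    · exact cw4_5
    · exact cw4_6
    · exact cw4_7)

theorem fix5 : ∀ i < 65520, applyF [lkS tA, lkS tG, lkS tA, lkS tG] i = i :=
  fix_of_uniform [lkS tA, lkS tG, lkS tA, lkS tG] 65520 8190 8 (by norm_num) (by norm_num) (by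
    intro k hk
    interval_cases k
    · exact cw5_0
    · exact cw5_1
    · exact cw5_2
    · exact cw5_3
    · exact cw5_4
    · exact cw5_5
    · exact cw5_6
    · exact cw5_7)

theorem fix6 : ∀ i < 65520, applyF [lkS tB, lkS tC, lkS tB, lkS tC, lkS tB, lkS tC] i = i :=
  fix_of_uniform [lkS tB, lkS tC, lkS tB, lkS tC, lkS tB, lkS tC] 65520 8190 8 (by norm_num) (by norm_num) (by
    intro k hk
    interval_cases k
    · exact cw6_0
    · exact cw6_1
    · exact cw6_2
    · exact cw6_3
    · exact cw6_4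
    · exact cw6_5
    · exact cw6_6
    · exact cw6_7)

theorem fix7 : ∀ i < 65520, applyF [lkS tB, lkS tD, lkS tB, lkS tD, lkS tD, lkS tD] i = i :=
  fix_of_uniform [lkS tB, lkS tD, lkS tB, lkS tD, lkS tD, lkS tD] 65520 8190 8 (by norm_num) (by norm_num) (by
    intro k hk
    interval_cases k
    · exact cw7_0
    · exact cw7_1
    · exact cw7_2
    · exact cw7_3
    · exact cw7_4
    · exact cw7_5
    · exact cw7_6
    · exact cw7_7)

theorem fix8 : ∀ i < 65520, applyF [lkS tB, lkS tE, lkS tB, lkS tE, lkS tD, lkS tD] i = i :=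
  fix_of_uniform [lkS tB, lkS tE, lkS tB, lkS tE, lkS tD, lkS tD] 65520 8190 8 (by norm_num) (by norm_num) (by
    intro k hk
    interval_cases k
    · exact cw8_0
    · exact cw8_1
    · exact cw8_2
    · exact cw8_3
    · exact cw8_4
    · exact cw8_5
    · exact cw8_6
    · exact cw8_7)

theorem fix9 : ∀ i < 65520, applyF [lkS tB, lkS tF, lkS tB, lkS tF, lkS tB, lkS tF] i = i :=
  fix_of_uniform [lkS tB, lkS tF, lkS tB, lkS tF, lkS tB, lkS tF] 65520 8190 8 (by norm_num) (by norm_num) (by
    intro k hk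
    interval_cases k
    · exact cw9_0
    · exact cw9_1
    · exact cw9_2
    · exact cw9_3
    · exact cw9_4
    · exact cw9_5
    · exact cw9_6
    · exact cw9_7)

theorem fix10 : ∀ i < 65520, applyF [lkS tB, lkS tG, lkS tB, lkS tG, lkS tB, lkS tG] i = i :=
  fix_of_uniform [lkS tB, lkS tG, lkS tB, lkS tG, lkS tB, lkS tG] 65520 8190 8 (by norm_num) (by norm_num) (by
    intro k hk
    interval_cases k
    · exact cw10_0
    · exact cw10_1
    · exact cw10_2
    · exact cw10_3
    · exact cw10_4
    · exact cw10_5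
    · exact cw10_6
    · exact cw10_7)

theorem fix11 : ∀ i < 65520, applyF [lkS tC, lkS tD, lkS tC, lkS tD, lkS tC, lkS tD, lkS tC, lkS tD, lkS tC, lkS tD, lkS tC, lkS tD, lkS tC, lkS tD, lkS tC, lkS tD] i = i :=
  fix_of_uniform [lkS tC, lkS tD, lkS tC, lkS tD, lkS tC, lkS tD, lkS tC, lkS tD, lkS tC, lkS tD, lkS tC, lkS tD, lkS tC, lkS tD, lkS tC, lkS tD] 65520 8190 8 (by norm_num) (by norm_num) (by
    intro k hk
    interval_cases k
    · exact cw11_0
    · exact cw11_1
    · exact cw11_2
    · exact cw11_3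
    · exact cw11_4
    · exact cw11_5
    · exact cw11_6
    · exact cw11_7)

theorem fix12 : ∀ i < 65520, applyF [lkS tC, lkS tE, lkS tC, lkS tE, lkS tD, lkS tD] i = i :=
  fix_of_uniform [lkS tC, lkS tE, lkS tC, lkS tE, lkS tD, lkS tD] 65520 8190 8 (by norm_num) (by norm_num) (by
    intro k hk
    interval_cases k
    · exact cw12_0
    · exact cw12_1
    · exact cw12_2
    · exact cw12_3
    · exact cw12_4
    · exact cw12_5
    · exact cw12_6
    · exact cw12_7)

theorem fix13 : ∀ i < 65520, applyF [lkS tC, lkS tF, lkS tC, lkS tF] i = i :=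
  fix_of_uniform [lkS tC, lkS tF, lkS tC, lkS tF] 65520 8190 8 (by norm_num) (by norm_num) (by
    intro k hk
    interval_cases k
    · exact cw13_0
    · exact cw13_1
    · exact cw13_2
    · exact cw13_3
    · exact cw13_4
    · exact cw13_5
    · exact cw13_6
    · exact cw13_7)

theorem fix14 : ∀ i < 65520, applyF [lkS tC, lkS tG, lkS tC, lkS tG] i = i :=
  fix_of_uniform [lkS tC, lkS tG, lkS tC, lkS tG] 65520 8190 8 (by norm_num) (by norm_num) (by
    intro k hk
    interval_cases k
    · exact cw14_0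
    · exact cw14_1
    · exact cw14_2
    · exact cw14_3
    · exact cw14_4
    · exact cw14_5
    · exact cw14_6
    · exact cw14_7)

theorem fix15 : ∀ i < 65520, applyF [lkS tD, lkS tE, lkS tD, lkS tE, lkS tD, lkS tE, lkS tD, lkS tD] i = i :=
  fix_of_uniform [lkS tD, lkS tE, lkS tD, lkS tE, lkS tD, lkS tE, lkS tD, lkS tD] 65520 8190 8 (by norm_num) (by norm_num) (by
    intro k hk
    interval_cases k
    · exact cw15_0
    · exact cw15_1
    · exact cw15_2
    · exact cw15_3
    · exact cw15_4
    · exact cw15_5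
    · exact cw15_6
    · exact cw15_7)

theorem fix16 : ∀ i < 65520, applyF [lkS tD, lkS tF, lkS tD, lkS tF, lkS tD, lkS tD] i = i :=
  fix_of_uniform [lkS tD, lkS tF, lkS tD, lkS tF, lkS tD, lkS tD] 65520 8190 8 (by norm_num) (by norm_num) (by
    intro k hk
    interval_cases k
    · exact cw16_0
    · exact cw16_1
    · exact cw16_2
    · exact cw16_3
    · exact cw16_4
    · exact cw16_5
    · exact cw16_6
    · exact cw16_7)

theorem fix17 : ∀ i < 65520, applyF [lkS tD, lkS tG, lkS tD, lkS tG, lkS tD, lkS tD] i = i :=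
  fix_of_uniform [lkS tD, lkS tG, lkS tD, lkS tG, lkS tD, lkS tD] 65520 8190 8 (by norm_num) (by norm_num) (by
    intro k hk
    interval_cases k
    · exact cw17_0
    · exact cw17_1
    · exact cw17_2
    · exact cw17_3
    · exact cw17_4
    · exact cw17_5
    · exact cw17_6
    · exact cw17_7)

theorem fix18 : ∀ i < 65520, applyF [lkS tE, lkS tF, lkS tE, lkS tF, lkS tD, lkS tD] i = i :=
  fix_of_uniform [lkS tE, lkS tF, lkS tE, lkS tF, lkS tD, lkS tD] 65520 8190 8 (by norm_num) (by norm_num) (by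
    intro k hk
    interval_cases k
    · exact cw18_0
    · exact cw18_1
    · exact cw18_2
    · exact cw18_3
    · exact cw18_4
    · exact cw18_5
    · exact cw18_6
    · exact cw18_7)

theorem fix19 : ∀ i < 65520, applyF [lkS tE, lkS tG, lkS tE, lkS tG, lkS tD, lkS tD] i = i :=
  fix_of_uniform [lkS tE, lkS tG, lkS tE, lkS tG, lkS tD, lkS tD] 65520 8190 8 (by norm_num) (by norm_num) (by
    intro k hk
    interval_cases k
    · exact cw19_0
    · exact cw19_1
    · exact cw19_2
    · exact cw19_3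
    · exact cw19_4
    · exact cw19_5
    · exact cw19_6
    · exact cw19_7)

theorem fix20 : ∀ i < 65520, applyF [lkS tF, lkS tG, lkS tF, lkS tG, lkS tF, lkS tG, lkS tF, lkS tG] i = i :=
  fix_of_uniform [lkS tF, lkS tG, lkS tF, lkS tG, lkS tF, lkS tG, lkS tF, lkS tG] 65520 8190 8 (by norm_num) (by norm_num) (by
    intro k hk
    interval_cases k
    · exact cw20_0
    · exact cw20_1
    · exact cw20_2
    · exact cw20_3
    · exact cw20_4
    · exact cw20_5
    · exact cw20_6
    · exact cw20_7)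

theorem fix21 : ∀ i < 65520, applyF [lkS tA, lkS tD, lkS tC, lkS tD, lkS tC, lkS tD, lkS tC, lkS tD, lkS tC] i = i :=
  fix_of_uniform [lkS tA, lkS tD, lkS tC, lkS tD, lkS tC, lkS tD, lkS tC, lkS tD, lkS tC] 65520 8190 8 (by norm_num) (by norm_num) (by
    intro k hk
    interval_cases k
    · exact cw21_0
    · exact cw21_1
    · exact cw21_2
    · exact cw21_3
    · exact cw21_4
    · exact cw21_5
    · exact cw21_6
    · exact cw21_7)

theorem fix22 : ∀ i < 65520, applyF [lkS tA, lkS tG, lkS tF, lkS tG, lkS tF] i = i :=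
  fix_of_uniform [lkS tA, lkS tG, lkS tF, lkS tG, lkS tF] 65520 8190 8 (by norm_num) (by norm_num) (by
    intro k hk
    interval_cases k
    · exact cw22_0
    · exact cw22_1
    · exact cw22_2
    · exact cw22_3
    · exact cw22_4
    · exact cw22_5
    · exact cw22_6
    · exact cw22_7)

theorem fix23 : ∀ i < 65520, applyF [lkS tA, lkS tB, lkS tC, lkS tF, lkS tA, lkS tB, lkS tC, lkS tF, lkS tA, lkS tB, lkS tC, lkS tF, lkS tA, lkS tB, lkS tC, lkS tF, lkS tA, lkS tB, lkS tC, lkS tF, lkS tD, lkS tD] i = i :=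
  fix_of_uniform [lkS tA, lkS tB, lkS tC, lkS tF, lkS tA, lkS tB, lkS tC, lkS tF, lkS tA, lkS tB, lkS tC, lkS tF, lkS tA, lkS tB, lkS tC, lkS tF, lkS tA, lkS tB, lkS tC, lkS tF, lkS tD, lkS tD] 65520 6552 10 (by norm_num) (by norm_num) (by
    intro k hk
    interval_cases k
    · exact cw23_0
    · exact cw23_1
    · exact cw23_2
    · exact cw23_3
    · exact cw23_4
    · exact cw23_5
    · exact cw23_6
    · exact cw23_7
    · exact cw23_8
    · exact cw23_9)

theorem fix24 : ∀ i < 65520, applyF [lkS tB, lkS tF, lkS tG, lkS tB, lkS tF, lkS tG, lkS tB, lkS tF, lkS tG, lkS tB, lkS tF, lkS tG, lkS tB, lkS tF, lkS tG] i = i :=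
  fix_of_uniform [lkS tB, lkS tF, lkS tG, lkS tB, lkS tF, lkS tG, lkS tB, lkS tF, lkS tG, lkS tB, lkS tF, lkS tG, lkS tB, lkS tF, lkS tG] 65520 8190 8 (by norm_num) (by norm_num) (by
    intro k hk
    interval_cases k
    · exact cw24_0
    · exact cw24_1
    · exact cw24_2
    · exact cw24_3
    · exact cw24_4
    · exact cw24_5
    · exact cw24_6
    · exact cw24_7)

theorem fix25 : ∀ i < 65520, applyF [lkS tB, lkS tC, lkS tD, lkS tC, lkS tD, lkS tB, lkS tC, lkS tD, lkS tC, lkS tD, lkS tB, lkS tC, lkS tD, lkS tC, lkS tD, lkS tB, lkS tC, lkS tD, lkS tC, lkS tD, lkS tB, lkS tC, lkS tD, lkS tC, lkS tD, lkS tE, lkS tB, lkS tC, lkS tD, lkS tC, lkS tD, lkS tB, lkS tC, lkS tD, lkS tC, lkS tD, lkS tB, lkS tC, lkS tD, lkS tC, lkS tD, lkS tB, lkS tC, lkS tD, lkS tC, lkS tD, lkS tB, lkS tC, lkS tD, lkS tC, lkS tD, lkS tE, lkS tB, lkS tC, lkS tD, lkS tC, lkS tD, lkS tB, lkS tC, lkS tD, lkS tC, lkS tD, lkS tB, lkS tC, lkS tD, lkS tC, lkS tD, lkS tB, lkS tC, lkS tD, lkS tC, lkS tD, lkS tB, lkS tC, lkS tD,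 lkS tC, lkS tD, lkS tE] i = i :=
  fix_of_uniform [lkS tB, lkS tC, lkS tD, lkS tC, lkS tD, lkS tB, lkS tC, lkS tD, lkS tC, lkS tD, lkS tB, lkS tC, lkS tD, lkS tC, lkS tD, lkS tB, lkS tC, lkS tD, lkS tC, lkS tD, lkS tB, lkS tC, lkS tD, lkS tC, lkS tD, lkS tE, lkS tB, lkS tC, lkS tD, lkS tC, lkS tD, lkS tB, lkS tC, lkS tD, lkS tC, lkS tD, lkS tB, lkS tC, lkS tD, lkS tC, lkS tD, lkS tB, lkS tC, lkS tD, lkS tC, lkS tD, lkS tB, lkS tC, lkS tD, lkS tC, lkS tD, lkS tE, lkS tB, lkS tC, lkS tD, lkS tC, lkS tD, lkS tB, lkS tC, lkS tD, lkS tC, lkS tD, lkS tB, lkS tC, lkS tD, lkS tC, lkS tD, lkS tB, lkS tC, lkS tD, lkS tC, lkS tD, lkS tB, lkS tC, lkS tD, lkS tC, lkS tD, lkS tE] 65520 1872 35 (by norm_num) (by norm_num) (by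
    intro k hk
    interval_cases k
    · exact cw25_0
    · exact cw25_1
    · exact cw25_2
    · exact cw25_3
    · exact cw25_4
    · exact cw25_5
    · exact cw25_6
    · exact cw25_7
    · exact cw25_8
    · exact cw25_9
    · exact cw25_10
    · exact cw25_11
    · exact cw25_12
    · exact cw25_13
    · exact cw25_14
    · exact cw25_15
    · exact cw25_16
    · exact cw25_17
    · exact cw25_18
    · exact cw25_19
    · exact cw25_20
    · exact cw25_21
    · exact cw25_22
    · exact cw25_23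
    · exact cw25_24
    · exact cw25_25
    · exact cw25_26
    · exact cw25_27
    · exact cw25_28
    · exact cw25_29
    · exact cw25_30
    · exact cw25_31
    · exact cw25_32
    · exact cw25_33
    · exact cw25_34)

theorem fix26 : ∀ i < 65520, applyF [lkS tA, lkS tA] i = i :=
  fix_of_uniform [lkS tA, lkS tA] 65520 8190 8 (by norm_num) (by norm_num) (by
    intro k hk
    interval_cases k
    · exact cw26_0
    · exact cw26_1
    · exact cw26_2
    · exact cw26_3
    · exact cw26_4
    · exact cw26_5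
    · exact cw26_6
    · exact cw26_7)

theorem fix27 : ∀ i < 65520, applyF [lkS tB, lkS tB] i = i :=
  fix_of_uniform [lkS tB, lkS tB] 65520 8190 8 (by norm_num) (by norm_num) (by
    intro k hk
    interval_cases k
    · exact cw27_0
    · exact cw27_1
    · exact cw27_2
    · exact cw27_3
    · exact cw27_4
    · exact cw27_5
    · exact cw27_6
    · exact cw27_7)

theorem fix28 : ∀ i < 65520, applyF [lkS tC, lkS tC] i = i :=
  fix_of_uniform [lkS tC, lkS tC] 65520 8190 8 (by norm_num) (by norm_num) (by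
    intro k hk
    interval_cases k
    · exact cw28_0
    · exact cw28_1
    · exact cw28_2
    · exact cw28_3
    · exact cw28_4
    · exact cw28_5
    · exact cw28_6
    · exact cw28_7)

theorem fix29 : ∀ i < 65520, applyF [lkS tD, lkS tD, lkS tD, lkS tD] i = i :=
  fix_of_uniform [lkS tD, lkS tD, lkS tD, lkS tD] 65520 8190 8 (by norm_num) (by norm_num) (by
    intro k hk
    interval_cases k
    · exact cw29_0
    · exact cw29_1
    · exact cw29_2
    · exact cw29_3
    · exact cw29_4
    · exact cw29_5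
    · exact cw29_6
    · exact cw29_7)

theorem fix30 : ∀ i < 65520, applyF [lkS tE, lkS tE, lkS tD, lkS tD] i = i :=
  fix_of_uniform [lkS tE, lkS tE, lkS tD, lkS tD] 65520 8190 8 (by norm_num) (by norm_num) (by
    intro k hk
    interval_cases k
    · exact cw30_0
    · exact cw30_1
    · exact cw30_2
    · exact cw30_3
    · exact cw30_4
    · exact cw30_5
    · exact cw30_6
    · exact cw30_7)

theorem fix31 : ∀ i < 65520, applyF [lkS tF, lkS tF] i = i :=
  fix_of_uniform [lkS tF, lkS tF] 65520 8190 8 (by norm_num) (by norm_num) (by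
    intro k hk
    interval_cases k
    · exact cw31_0
    · exact cw31_1
    · exact cw31_2
    · exact cw31_3
    · exact cw31_4
    · exact cw31_5
    · exact cw31_6
    · exact cw31_7)

theorem fix32 : ∀ i < 65520, applyF [lkS tG, lkS tG] i = i :=
  fix_of_uniform [lkS tG, lkS tG] 65520 8190 8 (by norm_num) (by norm_num) (by
    intro k hk
    interval_cases k
    · exact cw32_0
    · exact cw32_1
    · exact cw32_2
    · exact cw32_3
    · exact cw32_4
    · exact cw32_5
    · exact cw32_6
    · exact cw32_7)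

theorem fix33 : ∀ i < 65520, applyF [] i = i :=
  fix_of_uniform [] 65520 8190 8 (by norm_num) (by norm_num) (by
    intro k hk
    interval_cases k
    · exact cw33_0
    · exact cw33_1
    · exact cw33_2
    · exact cw33_3
    · exact cw33_4
    · exact cw33_5
    · exact cw33_6
    · exact cw33_7)

theorem fix34 : ∀ i < 65520, applyF [lkS tD, lkS tD, lkS tA, lkS tD, lkS tD, lkS tA] i = i :=
  fix_of_uniform [lkS tD, lkS tD, lkS tA, lkS tD, lkS tD, lkS tA] 65520 8190 8 (by norm_num) (by norm_num) (by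
    intro k hk
    interval_cases k
    · exact cw34_0
    · exact cw34_1
    · exact cw34_2
    · exact cw34_3
    · exact cw34_4
    · exact cw34_5
    · exact cw34_6
    · exact cw34_7)

theorem fix35 : ∀ i < 65520, applyF [lkS tD, lkS tD, lkS tB, lkS tD, lkS tD, lkS tB] i = i :=
  fix_of_uniform [lkS tD, lkS tD, lkS tB, lkS tD, lkS tD, lkS tB] 65520 8190 8 (by norm_num) (by norm_num) (by
    intro k hk
    interval_cases k
    · exact cw35_0
    · exact cw35_1
    · exact cw35_2
    · exact cw35_3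
    · exact cw35_4
    · exact cw35_5
    · exact cw35_6
    · exact cw35_7)

theorem fix36 : ∀ i < 65520, applyF [lkS tD, lkS tD, lkS tC, lkS tD, lkS tD, lkS tC] i = i :=
  fix_of_uniform [lkS tD, lkS tD, lkS tC, lkS tD, lkS tD, lkS tC] 65520 8190 8 (by norm_num) (by norm_num) (by
    intro k hk
    interval_cases k
    · exact cw36_0
    · exact cw36_1
    · exact cw36_2
    · exact cw36_3
    · exact cw36_4
    · exact cw36_5
    · exact cw36_6
    · exact cw36_7)

theorem fix37 : ∀ i < 65520, applyF [lkS tD, lkS tD, lkS tF, lkS tD, lkS tD, lkS tF] i = i :=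
  fix_of_uniform [lkS tD, lkS tD, lkS tF, lkS tD, lkS tD, lkS tF] 65520 8190 8 (by norm_num) (by norm_num) (by
    intro k hk
    interval_cases k
    · exact cw37_0
    · exact cw37_1
    · exact cw37_2
    · exact cw37_3
    · exact cw37_4
    · exact cw37_5
    · exact cw37_6
    · exact cw37_7)

theorem fix38 : ∀ i < 65520, applyF [lkS tD, lkS tD, lkS tG, lkS tD, lkS tD, lkS tG] i = i :=
  fix_of_uniform [lkS tD, lkS tD, lkS tG, lkS tD, lkS tD, lkS tG] 65520 8190 8 (by norm_num) (by norm_num) (by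
    intro k hk
    interval_cases k
    · exact cw38_0
    · exact cw38_1
    · exact cw38_2
    · exact cw38_3
    · exact cw38_4
    · exact cw38_5
    · exact cw38_6
    · exact cw38_7)

theorem fix39 : ∀ i < 65520, applyF [lkS tD, lkS tD, lkS tE, lkS tD, lkS tD, lkS tE, lkS tE, lkS tE] i = i :=
  fix_of_uniform [lkS tD, lkS tD, lkS tE, lkS tD, lkS tD, lkS tE, lkS tE, lkS tE] 65520 8190 8 (by norm_num) (by norm_num) (by
    intro k hk
    interval_cases k
    · exact cw39_0
    · exact cw39_1
    · exact cw39_2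
    · exact cw39_3
    · exact cw39_4
    · exact cw39_5
    · exact cw39_6
    · exact cw39_7)

end Cfsg.Agent.Lib.H25.SuzM2
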