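import Cfsg.Agent.Lib.H25.SuzM2.Fix
import Cfsg.Agent.Lib.H25.SuzM2.Cov2

set_option autoImplicit false
set_option maxRecDepth 100000

/-!
# S2048, piece M2: the monomial model of `2.Suz` shows `z2 ≠ 1` (helper25)

The seven tables of `SuzM2/Tabs.lean` (with the tables of the inverses of `d`, `e`) are permutations of `Fin 65520`
satisfying the 40 relator words of the presented double cover `PC2`; this gives a homomorphism
`PC2 →* Perm (Fin 65520)` under which `z2 = d²` moves the point `0`.
-/

namespace Cfsg.Agent.Lib.H25.SuzM2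

open Cfsg.Agent.Lib.H14.SuzM Cfsg.Agent.Lib.H25.PPT
open Cfsg.Agent.Lib.H17.SuzGlue (gen idx Gen)

/-- the function of a letter -/
noncomputable def fOf (x : ℕ) : ℕ → ℕ := lkS (tabOf x)

/-- the function of the inverse of a letter -/
noncomputable def fInvOf (x : ℕ) : ℕ → ℕ := lkS (tabInvOf x)

theorem good_letter (x : ℕ) : GoodF 65520 (fOf x) (fInvOf x) := by
  match x with
  | 0 => exact good0
  | 1 => exact good1
  | 2 => exact good2
  | 3 => exact good3
  | 4 => exact good4
  | 5 => exact good5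
  | 6 => exact good6
  | _ + 7 => exact good6

theorem cov_fix : ∀ w ∈ covW2, ∀ i < 65520, applyF (w.map fOf) i = i := by
  intro w hw
  simp only [covW2, List.mem_cons, List.not_mem_nil, or_false] at hw
  rcases hw with rfl | rfl | rfl | rfl | rfl | rfl | rfl | rfl | rfl | rfl | rfl | rfl | rfl | rfl | rfl | rfl | rfl | rfl | rfl | rfl | rfl | rfl | rfl | rfl | rfl | rfl | rfl | rfl | rfl | rfl | rfl | rfl | rfl | rfl | rfl | rfl | rfl | rfl | rfl | rfl
  · exact fix0
  · exact fix1
  · exact fix2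
  · exact fix3
  · exact fix4
  · exact fix5
  · exact fix6
  · exact fix7
  · exact fix8
  · exact fix9
  · exact fix10
  · exact fix11
  · exact fix12
  · exact fix13
  · exact fix14
  · exact fix15
  · exact fix16
  · exact fix17
  · exact fix18
  · exact fix19
  · exact fix20
  · exact fix21
  · exact fix22
  · exact fix23
  · exact fix24
  · exact fix25
  · exact fix26
  · exact fix27
  · exact fix28
  · exact fix29
  · exact fix30
  · exact fix31
  · exact fix32
  · exact fix33
  · exact fix34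
  · exact fix35
  · exact fix36
  · exact fix37
  · exact fix38
  · exact fix39

theorem fOf_idx_gen (x : ℕ) : fOf (idx (gen x)) = fOf x := by
  match x with
  | 0 => rfl
  | 1 => rfl
  | 2 => rfl
  | 3 => rfl
  | 4 => rfl
  | 5 => rfl
  | 6 => rfl
  | _ + 7 => rfl

theorem fInvOf_idx_gen (x : ℕ) : fInvOf (idx (gen x)) = fInvOf x := by
  match x with
  | 0 => rfl
  | 1 => rfl
  | 2 => rfl
  | 3 => rfl
  | 4 => rfl
  | 5 => rfl
  | 6 => rfl
  | _ + 7 => rfl

/-- the permutation of a generator -/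
noncomputable def ρ2 (u : Gen) : Equiv.Perm (Fin 65520) := ρ 65520 (fOf (idx u)) (fInvOf (idx u))

theorem ρ2_gen (x : ℕ) : ρ2 (gen x) = ρ 65520 (fOf x) (fInvOf x) := by
  unfold ρ2
  rw [fOf_idx_gen, fInvOf_idx_gen]

theorem lift_mk_pos2 {K : Type*} [Group K] (f : Gen → K) (w : List ℕ) :
    FreeGroup.lift f (FreeGroup.mk (w.map fun x => (gen x, true))) =
      (w.map fun x => f (gen x)).prod := by
  rw [FreeGroup.lift_mk, List.map_map]
  rfl

theorem ρ2_rels : ∀ r ∈ covRels2, FreeGroup.lift ρ2 r = 1 := by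
  rintro r ⟨w, hw, rfl⟩
  rw [lift_mk_pos2]
  have hg : ∀ p ∈ w.map (fun x => (fOf x, fInvOf x)), GoodF 65520 p.1 p.2 := by
    intro p hp
    obtain ⟨x, -, rfl⟩ := List.mem_map.mp hp
    exact good_letter x
  have hfix : ∀ i < 65520, applyF ((w.map (fun x => (fOf x, fInvOf x))).map Prod.fst) i = i := by
    rw [List.map_map]
    exact cov_fix w hw
  have h := prod_eq_one_of_fix 65520 _ hg hfix
  rw [List.map_map] at h
  rw [← h]
  congr 1
  apply List.map_congr_left
  intro x _
  exact ρ2_gen x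

/-- the monomial representation of the double cover -/
noncomputable def φ2 : PC2 →* Equiv.Perm (Fin 65520) :=
  PresentedGroup.toGroup (f := ρ2) ρ2_rels

theorem φ2_pc2 (x : ℕ) : φ2 (pc2 x) = ρ 65520 (fOf x) (fInvOf x) := by
  unfold φ2 pc2
  rw [PresentedGroup.toGroup.of, ρ2_gen]

theorem z2_moves : Nat.beq (lkS tDi (lkS tDi 0)) 0 = false := by
  decide +kernel

/-- **M2**: the central element `z2 = d²` of the presented double cover is not trivial -/
theorem z2_ne_one : z2 ≠ 1 := by
  intro h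
  have h1 : φ2 z2 = 1 := by rw [h, map_one]
  have h2 : φ2 z2 = ρ 65520 (fOf 3) (fInvOf 3) * ρ 65520 (fOf 3) (fInvOf 3) := by
    unfold z2 zw2
    rw [wv_cons, wv_cons, wv_nil, mul_one, map_mul, φ2_pc2]
  rw [h2] at h1
  have h3 : (((ρ 65520 (fOf 3) (fInvOf 3) * ρ 65520 (fOf 3) (fInvOf 3)) ⟨0, by norm_num⟩ :
      Fin 65520) : ℕ) = 0 := by
    rw [h1]
    rfl
  rw [Equiv.Perm.mul_apply, ρ_apply 65520 _ _ (good_letter 3), ρ_apply 65520 _ _ (good_letter 3)] at h3
  have h4 : lkS tDi (lkS tDi 0) = 0 := h3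
  have h5 := z2_moves
  rw [h4] at h5
  exact absurd h5 (by decide)

end Cfsg.Agent.Lib.H25.SuzM2
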